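import Cfsg.Agent.Lib.Recog.RuRankThree.GraphChecks

/-!
# The orbits of a unipotent subgroup on the 1755 points
-/

set_option autoImplicit false
set_option maxRecDepth 100000
set_option Elab.async false

namespace CfsgLib.Recog.RuRankThree

open CfsgLib.Sporadic (forallLt)

/-- The words of the two letters. -/
def uWords : List (List ℕ) := [[0], [1]]

/-- The order table of a block. -/
noncomputable def uOrd (b i : ℕ) : ℕ := uOrder.field 16 (Nat.add (uOff.getD b 0) i)

/-- A block is one orbit of at least five points. -/
noncomputable def blockOK (b : ℕ) : Bool :=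
  Nat.ble 5 (uLen.getD b 0) &&
    treeOK (ptStep uWords (uOrd b)) 2 (uLen.getD b 0)
      (fun q => uNext.field 16 (Nat.add (Nat.mul 2 (uOff.getD b 0)) q))
      (fun j => uPar.field 16 (Nat.add (uOff.getD b 0) j)) &&
    forallLt 5 fun i => forallLt 5 fun j => Nat.beq i j || !(Nat.beq (uOrd b i) (uOrd b j))

/-- The union of the blocks and the small orbits. -/
noncomputable def uCover : ℕ :=
  Nat.rec (Nat.rec 0 (fun i acc => Nat.lor acc (Nat.shiftLeft 1 (uSmall.getD i 0))) 3)
    (fun b acc => Nat.lor acc
      (Nat.rec 0 (fun i acc => Nat.lor acc (Nat.shiftLeft 1 (uOrd b i))) (uLen.getD b 0))) uLen.length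

theorem u_blocks : forallLt uLen.length blockOK = true ∧ Nat.beq uCover fullM = true ∧ uSmall.length = 3 ∧
    uSmall.getD 0 0 = 0 := by
  decide +kernel

end CfsgLib.Recog.RuRankThree
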