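import Cfsg.Agent.Lib.Recog.RuRankThree.Graph
import Cfsg.Agent.Lib.Recog.RuRankThree.ActionChecks

/-!
# A transitive action on 1755 points is the action on the points

A subgroup of index 1755 contains a conjugate of the unipotent subgroup, whose orbit lengths leave only the
stabiliser of a point.
-/

set_option autoImplicit false
set_option maxRecDepth 10000

namespace CfsgLib.Recog.RuRankThree

open MulAction
open scoped Pointwise
open CfsgLib.Sporadic (forallLt forallLt_elim)

/-- The unipotent subgroup inside the group. -/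
noncomputable def Usub : Subgroup ↥Lgrp := Ugrp.subgroupOf Lgrp

theorem card_Usub : Nat.card ↥Usub = 2 ^ 12 :=
  (Nat.card_congr (Subgroup.subgroupOfEquivOfLe Ugrp_le).toEquiv).trans card_Ugrp

theorem mem_Usub {g : ↥Lgrp} : g ∈ Usub ↔ (g : Equiv.Perm (Fin 1755)) ∈ Ugrp := Iff.rfl

theorem uOrd_lt {b i : ℕ} (hb : b < uLen.length) (hi : i < uLen.getD b 0) : uOrd b i < 1755 := by
  have h := forallLt_elim u_blocks.1 hb
  simp only [blockOK, Bool.and_eq_true, treeOK] at h
  have := forallLt_elim (forallLt_elim h.1.2.1 hi) (show 0 < 2 by norm_num)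
  simp only [ptStep, Bool.and_eq_true, Nat.blt_eq] at this
  exact this.2.1.2

theorem blocks_cover : ∀ (n : ℕ) (x : ℕ),
    ((Nat.rec (Nat.rec 0 (fun i acc => Nat.lor acc (Nat.shiftLeft 1 (uSmall.getD i 0))) 3)
      (fun b acc => Nat.lor acc
        (Nat.rec 0 (fun i acc => Nat.lor acc (Nat.shiftLeft 1 (uOrd b i))) (uLen.getD b 0))) n : ℕ).testBit x = true) →
    x ∈ uSmall ∨ ∃ b < n, ∃ i < uLen.getD b 0, uOrd b i = x
  | 0, x, h => by
    obtain ⟨i, hi, e⟩ := testBit_orFold (fun i => uSmall.getD i 0) 3 x h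
    rw [List.getD_eq_getElem _ _ (by rw [u_blocks.2.2.1]; exact hi)] at e
    exact Or.inl (e ▸ List.getElem_mem _)
  | n + 1, x, h => by
    have ih := blocks_cover n x
    generalize hR : (Nat.rec (Nat.rec 0 (fun i acc => Nat.lor acc (Nat.shiftLeft 1 (uSmall.getD i 0))) 3)
      (fun b acc => Nat.lor acc
        (Nat.rec 0 (fun i acc => Nat.lor acc (Nat.shiftLeft 1 (uOrd b i))) (uLen.getD b 0))) n : ℕ) = R at ih
    replace h : (Nat.lor (Nat.rec (Nat.rec 0 (fun i acc => Nat.lor acc (Nat.shiftLeft 1 (uSmall.getD i 0))) 3)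
      (fun b acc => Nat.lor acc
        (Nat.rec 0 (fun i acc => Nat.lor acc (Nat.shiftLeft 1 (uOrd b i))) (uLen.getD b 0))) n)
      (Nat.rec 0 (fun i acc => Nat.lor acc (Nat.shiftLeft 1 (uOrd n i))) (uLen.getD n 0))).testBit x = true := h
    rw [hR, show ∀ A, Nat.lor R A = R ||| A from fun A => rfl, Nat.testBit_or, Bool.or_eq_true] at h
    rcases h with h | h
    · rcases ih h with h' | ⟨b, hb, e⟩
      exacts [Or.inl h', Or.inr ⟨b, by omega, e⟩]
    · obtain ⟨i, hi, e⟩ := testBit_orFold (uOrd n) _ x h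
      exact Or.inr ⟨n, by omega, i, hi, e⟩

/-- Outside three points the unipotent subgroup has at least five images of a point. -/
theorem big_orbit (w : Fin 1755) (hw : w.val ∉ uSmall) :
    5 ≤ (orbit ↥Ugrp w).ncard := by
  classical
  have hcov : uCover.testBit w.val = true := by
    rw [Nat.eq_of_beq_eq_true u_blocks.2.1, testBit_fullM]; exact decide_eq_true w.isLt
  obtain ⟨b, hb, i, hi, e⟩ := (blocks_cover uLen.length _ (show _ from hcov)).resolve_left hw
  have h := forallLt_elim u_blocks.1 hb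
  simp only [blockOK, Bool.and_eq_true, Nat.ble_eq] at h
  obtain ⟨⟨h5, htree⟩, hnd⟩ := h
  have hU : Subgroup.closure {p | p ∈ uWords.map wordP} ≤ Ugrp := by
    refine (Subgroup.closure_le _).2 fun p hp => ?_
    obtain ⟨v, hv, rfl⟩ := List.mem_map.1 (show p ∈ uWords.map wordP from hp)
    simp only [uWords, List.mem_cons, List.not_mem_nil, or_false] at hv
    rcases hv with rfl | rfl <;> simp [wordP, Ugrp_gen]
  have hreach := (orbit_of_tree (α := Fin 1755) (uWords.map wordP) _ (fun i => ptAt (uOrd b i))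
    (ptStep uWords (uOrd b)) _ _
    (fun i k j hk hi hj hs => by
      simp only [ptStep, Bool.and_eq_true, Nat.blt_eq, Nat.beq_eq] at hs
      rw [List.length_map] at hk
      rw [List.getD_eq_getElem _ _ (by rwa [List.length_map]), List.getElem_map, ← List.getD_eq_getElem _ [] hk,
        Equiv.Perm.smul_def, wordP_ptAt hs.1.1 hs.1.2, hs.2])
    (by simp [uWords]) (by rw [List.length_map]; exact htree)).1
  have hmem : ∀ j < uLen.getD b 0, ptAt (uOrd b j) ∈ orbit ↥Ugrp w := by
    intro j hj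
    obtain ⟨g, hg, hge⟩ := hreach j hj
    obtain ⟨g', hg', hge'⟩ := hreach i hi
    refine ⟨⟨g * g'⁻¹, mul_mem (hU hg) (inv_mem (hU hg'))⟩, ?_⟩
    show (g * g'⁻¹) w = _
    rw [e, ptAt_val] at hge'
    rw [← hge', Equiv.Perm.smul_def, Equiv.Perm.mul_apply, Equiv.Perm.coe_inv, Equiv.symm_apply_apply]
    exact hge
  let f : Fin 5 → Fin 1755 := fun j => ptAt (uOrd b j.val)
  have hf : Function.Injective f := fun j k hjk => by
    have hv := congrArg Fin.val hjk
    simp only [f, ptAt] at hv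
    rw [Nat.mod_eq_of_lt (uOrd_lt hb (lt_of_lt_of_le j.isLt h5)),
      Nat.mod_eq_of_lt (uOrd_lt hb (lt_of_lt_of_le k.isLt h5))] at hv
    have := forallLt_elim (forallLt_elim hnd j.isLt) k.isLt
    simp only [Bool.or_eq_true, Nat.beq_eq, Bool.not_eq_true', hv] at this
    rcases this with h | h
    · exact Fin.ext h
    · simp at h
  calc 5 = (Set.range f).ncard := by rw [Set.ncard_range_of_injective hf, Nat.card_fin]
    _ ≤ _ := Set.ncard_le_ncard (by rintro _ ⟨j, rfl⟩; exact hmem _ (lt_of_lt_of_le j.isLt h5)) (Set.toFinite _)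

instance Lgrp_pretransitive : IsPretransitive ↥Lgrp (Fin 1755) := ⟨fun x y => by
  obtain ⟨g, hg, rfl⟩ := exists_move x
  obtain ⟨h, hh, rfl⟩ := exists_move y
  exact ⟨⟨h * g⁻¹, mul_mem hh (inv_mem hg)⟩, show (h * g⁻¹) (g 0) = h 0 by simp⟩⟩

theorem card_stab (x : Fin 1755) : Nat.card ↥(stabilizer ↥Lgrp x) = 20480 := by
  have h := (stabilizer ↥Lgrp x).card_mul_index
  rw [index_stabilizer_of_transitive, Nat.card_fin, card_Lgrp] at h
  omega

/-- A subgroup of index 1755 fixes a point. -/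
theorem exists_fixed (M : Subgroup ↥Lgrp) (hM : M.index = 1755) :
    ∃ x : Fin 1755, M = stabilizer ↥Lgrp x := by
  classical
  haveI : Fact (Nat.Prime 2) := ⟨Nat.prime_two⟩
  haveI : Finite ↥Lgrp := Nat.finite_of_card_ne_zero (by rw [card_Lgrp]; norm_num)
  have hMc : Nat.card ↥M = 20480 := by
    have := M.card_mul_index; rw [hM, card_Lgrp] at this; omega
  have hUi : ¬ 2 ∣ Usub.index := by
    have := Usub.card_mul_index
    rw [card_Usub, card_Lgrp] at this
    omega
  let P0 : Sylow 2 ↥Lgrp := (IsPGroup.of_card card_Usub).toSylow hUi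
  let Q : Sylow 2 ↥M := default
  have hQp : IsPGroup 2 ↥((Q : Subgroup ↥M).map M.subtype) := Q.isPGroup'.map _
  obtain ⟨P, hP⟩ := hQp.exists_le_sylow
  obtain ⟨g, hg⟩ := MulAction.exists_smul_eq ↥Lgrp P P0
  have hQc : Nat.card ↥((Q : Subgroup ↥M).map M.subtype) = 2 ^ 12 := by
    rw [Subgroup.card_map_of_injective M.subtype_injective, Q.card_eq_multiplicity, hMc,
      show (20480 : ℕ) = 2 ^ 12 * 5 by norm_num, Nat.factorization_mul (by norm_num) (by norm_num),
      Finsupp.add_apply, Nat.Prime.factorization_pow Nat.prime_two,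
      Nat.factorization_eq_zero_of_not_dvd (by norm_num : ¬ 2 ∣ 5)]
    simp
  have hPc : Nat.card ↥(P : Subgroup ↥Lgrp) = 2 ^ 12 := by
    rw [P.card_eq_multiplicity, ← P0.card_eq_multiplicity, IsPGroup.toSylow_coe, card_Usub]
  have hPQ : (Q : Subgroup ↥M).map M.subtype = (P : Subgroup ↥Lgrp) :=
    Subgroup.eq_of_le_of_card_ge hP (by rw [hPc, hQc])
  -- the fixed point
  let x : Fin 1755 := g⁻¹ • (0 : Fin 1755)
  have hUM : ∀ u ∈ Usub, g⁻¹ * u * g ∈ M := by
    intro u hu
    have : u ∈ ((g • P : Sylow 2 ↥Lgrp) : Subgroup ↥Lgrp) := by rw [hg, IsPGroup.toSylow_coe]; exact hu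
    rw [Sylow.coe_subgroup_smul, Subgroup.mem_pointwise_smul_iff_inv_smul_mem, MulAut.smul_def,
      MulAut.conj_inv_apply, ← hPQ] at this
    obtain ⟨q, -, hq⟩ := this
    rw [← hq]; exact q.2
  have hfix : ∀ u ∈ Usub, (g⁻¹ * u * g) • x = x := by
    intro u hu
    rw [mul_smul, mul_smul, smul_inv_smul, show u • (0 : Fin 1755) = 0 from Ugrp_fix (mem_Usub.1 hu)]
  let O := orbit ↥M x
  have hdvd : O.ncard ∣ 5 := by
    have h1 := (stabilizer ↥M x).card_mul_index
    rw [index_stabilizer, hMc] at h1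
    have h2 : 2 ^ 12 ∣ Nat.card ↥(stabilizer ↥M x) := by
      rw [← card_Usub]
      let f : ↥Usub →* ↥(stabilizer ↥M x) :=
        { toFun := fun u => ⟨⟨g⁻¹ * u.1 * g, hUM _ u.2⟩, hfix _ u.2⟩
          map_one' := Subtype.ext (Subtype.ext (by simp))
          map_mul' := fun u v => Subtype.ext (Subtype.ext (by simp [mul_assoc])) }
      exact Subgroup.card_dvd_of_injective f fun u v h => by
        have := congrArg (fun z : ↥(stabilizer ↥M x) => z.1.1) h
        exact Subtype.ext (by simpa [f] using this)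
    obtain ⟨d, hd⟩ := h2
    rw [hd, mul_assoc] at h1
    refine ⟨d, ?_⟩
    have h3 := Nat.eq_of_mul_eq_mul_left (show 0 < 2 ^ 12 by norm_num) (h1.trans (show 20480 = 2 ^ 12 * 5 by norm_num))
    rw [mul_comm]; exact h3.symm
  have hO : O.ncard ≠ 5 := by
    intro h5
    have hsub : ∀ w ∈ O, ((g : Equiv.Perm (Fin 1755)) w).val ∈ uSmall := by
      intro w hw
      by_contra hns
      have hO5 : (orbit ↥Ugrp ((g : Equiv.Perm (Fin 1755)) w)) ⊆
          (fun z => (g : Equiv.Perm (Fin 1755)) z) '' (O \ {x}) := by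
        rintro _ ⟨⟨u, hu⟩, rfl⟩
        let u' : ↥Lgrp := ⟨u, Ugrp_le hu⟩
        refine ⟨(g⁻¹ * u' * g) • w, ⟨?_, ?_⟩, ?_⟩
        · exact mem_orbit_of_mem_orbit (⟨_, hUM u' hu⟩ : ↥M) hw
        · intro hx
          have hwx : w = x := smul_left_cancel _ ((Set.mem_singleton_iff.1 hx).trans (hfix u' hu).symm)
          refine hns ?_
          rw [hwx]
          show (((g : ↥Lgrp) • (g⁻¹ • (0 : Fin 1755))) : Fin 1755).val ∈ uSmall
          rw [smul_inv_smul, Fin.val_zero]
          have := u_blocks.2.2.2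
          rw [List.getD_eq_getElem _ _ (by rw [u_blocks.2.2.1]; norm_num)] at this
          exact List.mem_of_getElem this
        · show g • ((g⁻¹ * u' * g) • w) = _
          rw [mul_smul, mul_smul, smul_inv_smul]
          rfl
      have h := (big_orbit _ hns).trans (Set.ncard_le_ncard hO5 (Set.toFinite _))
      rw [Set.ncard_image_of_injective _ (g : Equiv.Perm (Fin 1755)).injective,
        Set.ncard_sdiff (Set.singleton_subset_iff.2 (mem_orbit_self x)), h5, Set.ncard_singleton] at h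
      omega
    have h3 : O.ncard ≤ 3 := by
      rw [← u_blocks.2.2.1, ← Set.ncard_image_of_injective O
        (f := fun w => ((g : Equiv.Perm (Fin 1755)) w).val)
        (Fin.val_injective.comp (g : Equiv.Perm (Fin 1755)).injective)]
      refine le_trans (Set.ncard_le_ncard (t := (↑uSmall.toFinset : Set ℕ)) ?_ (Finset.finite_toSet _)) ?_
      · rintro _ ⟨w, hw, rfl⟩
        rw [Finset.mem_coe, List.mem_toFinset]
        exact hsub w hw
      · rw [Set.ncard_coe_finset]; exact List.toFinset_card_le _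
    omega
  have hO1 : O.ncard = 1 := ((Nat.dvd_prime (by norm_num)).1 hdvd).resolve_right hO
  refine ⟨x, Subgroup.eq_of_le_of_card_ge (fun m hm => ?_) (by rw [hMc, card_stab])⟩
  obtain ⟨z, hz⟩ := Set.ncard_eq_one.1 hO1
  have h1 : x ∈ O := mem_orbit_self x
  have h2 : (⟨m, hm⟩ : ↥M) • x ∈ O := mem_orbit _ _
  rw [hz, Set.mem_singleton_iff] at h1 h2
  exact h2.trans h1.symm

/-- A transitive action on 1755 points is the action on the points. -/
theorem exists_labelling {X : Type*} [MulAction ↥Lgrp X] [IsPretransitive ↥Lgrp X] (hX : Nat.card X = 1755) :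
    ∃ φ : X ≃ Fin 1755, ∀ (g : ↥Lgrp) (z : X), φ (g • z) = (g : Equiv.Perm (Fin 1755)) (φ z) := by
  obtain ⟨⟨z₀⟩, hfin⟩ := Nat.card_pos_iff.1 (by omega : 0 < Nat.card X)
  obtain ⟨x, hx⟩ := exists_fixed (stabilizer ↥Lgrp z₀) (by rw [index_stabilizer_of_transitive, hX])
  choose t ht using fun z : X => exists_smul_eq ↥Lgrp z₀ z
  let φ : X → Fin 1755 := fun z => (t z : Equiv.Perm (Fin 1755)) x
  have key : ∀ (g : ↥Lgrp) (z : X), g • z₀ = z → (g : Equiv.Perm (Fin 1755)) x = φ z := by
    intro g z hgz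
    have hm : (t z)⁻¹ * g ∈ stabilizer ↥Lgrp z₀ := by
      rw [mem_stabilizer_iff, mul_smul, hgz, inv_smul_eq_iff, ht]
    rw [hx, mem_stabilizer_iff, mul_smul, inv_smul_eq_iff] at hm
    exact hm
  have hinj : Function.Injective φ := by
    intro u v h
    have hm : (t u)⁻¹ * t v ∈ stabilizer ↥Lgrp x := by
      rw [mem_stabilizer_iff, mul_smul, inv_smul_eq_iff]
      exact h.symm
    rw [← hx, mem_stabilizer_iff, mul_smul, inv_smul_eq_iff, ht, ht] at hm
    exact hm.symm
  have hbij : Function.Bijective φ := (Nat.bijective_iff_injective_and_card φ).2 ⟨hinj, by rw [hX, Nat.card_fin]⟩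
  refine ⟨Equiv.ofBijective φ hbij, fun g z => ?_⟩
  show φ (g • z) = (g : Equiv.Perm (Fin 1755)) (φ z)
  rw [← key (g * t z) (g • z) (by rw [mul_smul, ht])]
  rfl

end CfsgLib.Recog.RuRankThree
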