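import Cfsg.Agent.Lib.Recog.BitPerm.Basic
import Cfsg.Agent.Lib.Sporadic.Bits
import Cfsg.Agent.Lib.Recog.RuRankThree.Perms

/-!
# The letters on the 1755 points, sets of points as bit masks, orbit trees
-/

set_option autoImplicit false
set_option maxRecDepth 100000

namespace CfsgLib.Recog.RuRankThree

open MulAction
open scoped Pointwise
open CfsgLib.Sporadic (forallLt forallLt_elim)
open CfsgLib.Recog.BitPerm (Stage run stageOK testBit_run netPerm)

/-- One bit. -/
noncomputable def bt (m i : ℕ) : Bool := Nat.beq (Nat.land (Nat.shiftRight m i) 1) 1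

theorem bt_eq (m i : ℕ) : bt m i = m.testBit i := by
  show Nat.beq ((m >>> i) &&& 1) 1 = _
  rw [Nat.and_one_is_mod, Nat.testBit_eq_decide_div_mod_eq, Nat.shiftRight_eq_div_pow]
  rcases Nat.mod_two_eq_zero_or_one (m / 2 ^ i) with h | h <;> rw [h] <;> rfl

/-- Eleven bits of a packed permutation. -/
noncomputable def pget (P x : ℕ) : ℕ := Nat.land (Nat.shiftRight P (Nat.mul 11 x)) 2047

/-- The code of a letter, `18` and `19` standing for the two further permutations. -/
noncomputable def codeOf (k : ℕ) : ℕ := (genCode ++ [tCode, nCode]).getD k 0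

/-- A letter on numbers. -/
noncomputable def genN (k x : ℕ) : ℕ := pget (codeOf k) x

/-- Its inverse on numbers. -/
noncomputable def invN (k x : ℕ) : ℕ :=
  cond (Nat.beq k 18) (pget tInvCode x) (cond (Nat.beq k 19) (pget nInv x) (pget (invCode.getD k 0) x))

/-- The packed permutations are permutations of the points. -/
noncomputable def permOK (k : ℕ) : Bool :=
  forallLt 1755 fun x => Nat.blt (genN k x) 1755 && Nat.beq (invN k (genN k x)) x &&
    (Nat.blt (invN k x) 1755 && Nat.beq (genN k (invN k x)) x)

theorem perms_ok : forallLt 20 permOK = true := by decide +kernel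

theorem perm_spec {k : ℕ} (hk : k < 20) (x : Fin 1755) :
    (genN k x.val < 1755 ∧ invN k (genN k x.val) = x.val) ∧ invN k x.val < 1755 ∧ genN k (invN k x.val) = x.val := by
  have h := forallLt_elim (forallLt_elim perms_ok hk) x.isLt
  simp only [Bool.and_eq_true, Nat.blt_eq, Nat.beq_eq] at h
  exact h

/-- A letter. -/
noncomputable def genP (k : ℕ) : Equiv.Perm (Fin 1755) :=
  if hk : k < 20 then
    { toFun := fun x => ⟨genN k x.val, (perm_spec hk x).1.1⟩
      invFun := fun x => ⟨invN k x.val, (perm_spec hk x).2.1⟩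
      left_inv := fun x => Fin.ext (perm_spec hk x).1.2
      right_inv := fun x => Fin.ext (perm_spec hk x).2.2 }
  else 1

theorem genP_val {k : ℕ} (hk : k < 20) (x : Fin 1755) : (genP k x).val = genN k x.val := by
  rw [genP, dif_pos hk]; rfl

/-- A word on numbers. -/
noncomputable def wordN (w : List ℕ) (x : ℕ) : ℕ :=
  List.rec (motive := fun _ => ℕ → ℕ) (fun x => x) (fun k _ ih x => genN k (ih x)) w x

/-- The letters are numbers below twenty. -/
noncomputable def wordOK (w : List ℕ) : Bool := w.all fun k => Nat.blt k 20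

/-- A word as a permutation. -/
noncomputable def wordP : List ℕ → Equiv.Perm (Fin 1755)
  | [] => 1
  | k :: w => genP k * wordP w

theorem wordP_val : ∀ (w : List ℕ), wordOK w = true → ∀ a : Fin 1755, (wordP w a).val = wordN w a.val
  | [], _, a => rfl
  | k :: w, h, a => by
    simp only [wordOK, List.all_cons, Bool.and_eq_true, Nat.blt_eq] at h
    show (genP k (wordP w a)).val = genN k (wordN w a.val)
    rw [genP_val h.1, wordP_val w h.2 a]

/-- The set of points of a mask. -/
def ofMask (m : ℕ) : Finset (Fin 1755) := Finset.univ.filter fun i => m.testBit i.val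

theorem mem_ofMask {m : ℕ} {i : Fin 1755} : i ∈ ofMask m ↔ m.testBit i.val = true := by
  simp [ofMask]

theorem ofMask_inj {m m' : ℕ} (hm : m < 2 ^ 1755) (hm' : m' < 2 ^ 1755) (h : ofMask m = ofMask m') : m = m' := by
  refine Nat.eq_of_testBit_eq fun b => ?_
  rcases Nat.lt_or_ge b 1755 with hb | hb
  · have := Finset.ext_iff.1 h ⟨b, hb⟩
    simp only [mem_ofMask] at this
    exact Bool.eq_iff_iff.2 this
  · rw [Nat.testBit_lt_two_pow (lt_of_lt_of_le hm (Nat.pow_le_pow_right (by norm_num) hb)),
      Nat.testBit_lt_two_pow (lt_of_lt_of_le hm' (Nat.pow_le_pow_right (by norm_num) hb))]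

/-- The slot of the network of a letter. -/
noncomputable def netSlot (k : ℕ) : ℕ :=
  cond (Nat.beq k 0) 0 (cond (Nat.beq k 1) 1 (cond (Nat.beq k 16) 2 (cond (Nat.beq k 17) 3 4)))

/-- The networks of the four generating letters and of the element `n`. -/
noncomputable def netOf (k : ℕ) : List Stage := (genNets ++ [nNet]).getD (netSlot k) []

/-- The network of a letter moves the bits as the letter moves the points. -/
noncomputable def netOK (k : ℕ) : Bool :=
  (netOf k).all (stageOK 11) &&
    forallLt 11 fun j => Nat.beq (run (netOf k) (imgSrc j)) (imgDst k j)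
  where
    /-- The bit plane of the numbers of the points. -/
    imgSrc (j : ℕ) : ℕ :=
      Nat.rec 0 (fun x acc => cond (bt x j) (Nat.lor (Nat.shiftLeft 1 x) acc) acc) 2048
    /-- The bit plane carried along. -/
    imgDst (k j : ℕ) : ℕ :=
      Nat.rec 0 (fun x acc => cond (bt (cond (Nat.blt x 1755) (invN k x) x) j) (Nat.lor (Nat.shiftLeft 1 x) acc) acc) 2048

theorem testBit_fold (f : ℕ → Bool) : ∀ n x : ℕ,
    (Nat.rec 0 (fun y acc => cond (f y) (Nat.lor (Nat.shiftLeft 1 y) acc) acc) n : ℕ).testBit x =
      (decide (x < n) && f x)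
  | 0, x => by simp
  | n + 1, x => by
    have ih := testBit_fold f n x
    generalize hR : (Nat.rec 0 (fun y acc => cond (f y) (Nat.lor (Nat.shiftLeft 1 y) acc) acc) n : ℕ) = R at ih
    show (cond (f n) (Nat.lor (Nat.shiftLeft 1 n)
      (Nat.rec 0 (fun y acc => cond (f y) (Nat.lor (Nat.shiftLeft 1 y) acc) acc) n)) _ : ℕ).testBit x = _
    rw [hR]
    show (cond (f n) ((1 <<< n) ||| R) R).testBit x = _
    rw [Nat.shiftLeft_eq, one_mul]
    by_cases hxn : x = n
    · subst hxn; cases hfx : f x <;> simp [Nat.testBit_or, Nat.testBit_two_pow_self, ih, hfx]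
    · have h2 : decide (x < n + 1) = decide (x < n) := decide_eq_decide.2 (by omega)
      rw [h2, ← ih]
      cases f n <;> simp [Nat.testBit_or, Nat.testBit_two_pow, Ne.symm hxn]

theorem nets_ok : ([0, 1, 16, 17, 19].all netOK) = true := by decide +kernel

theorem run_gen {k : ℕ} (hk : k ∈ [0, 1, 16, 17, 19]) (X : ℕ) (a : Fin 1755) :
    (run (netOf k) X).testBit (genP k a).val = X.testBit a.val := by
  have h := List.all_eq_true.1 nets_ok k hk
  simp only [netOK, Bool.and_eq_true, List.all_eq_true] at h
  have hk20 : k < 20 := by simp only [List.mem_cons, List.not_mem_nil, or_false] at hk; omega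
  set i := genP k a
  rw [testBit_run h.1]
  congr 1
  set q := netPerm (netOf k) i.val with hq
  have hi : invN k i.val = a.val := by
    rw [show i.val = genN k a.val from genP_val hk20 a]
    exact (perm_spec hk20 a).1.2
  have hbits : ∀ j < 11, (decide (q < 2048) && bt q j) = bt a.val j := by
    intro j hj
    have e := congrArg (fun m => m.testBit i.val) (Nat.eq_of_beq_eq_true (forallLt_elim h.2 hj))
    simp only [netOK.imgSrc, netOK.imgDst, testBit_run h.1, testBit_fold, ← hq] at e
    rw [e, decide_eq_true (show i.val < 2048 by omega), show Nat.blt i.val 1755 = true from (Nat.blt_eq).symm ▸ i.isLt, cond_true, hi, Bool.true_and]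
  have hq2 : q < 2048 := by
    by_contra hge
    have hall : ∀ j < 11, bt a.val j = false := fun j hj => by
      rw [← hbits j hj, decide_eq_false hge, Bool.false_and]
    have ha : a.val = 0 := Nat.eq_of_testBit_eq fun j => by
      rcases Nat.lt_or_ge j 11 with hj | hj
      · rw [← bt_eq, hall j hj, Nat.zero_testBit]
      · rw [Nat.testBit_lt_two_pow (lt_of_lt_of_le (show a.val < 2 ^ 11 by omega)
          (Nat.pow_le_pow_right (by norm_num) hj)), Nat.zero_testBit]
    have hfix := CfsgLib.Recog.BitPerm.netPerm_fix (B := 11) h.1 (i := q) (by omega)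
    have : q = i.val := (netPerm (netOf k)).injective hfix
    omega
  refine Nat.eq_of_testBit_eq fun j => ?_
  rcases Nat.lt_or_ge j 11 with hj | hj
  · rw [← bt_eq, ← bt_eq, ← hbits j hj, decide_eq_true hq2, Bool.true_and]
  · rw [Nat.testBit_lt_two_pow (lt_of_lt_of_le (show q < 2 ^ 11 by omega) (Nat.pow_le_pow_right (by norm_num) hj)),
      Nat.testBit_lt_two_pow (lt_of_lt_of_le (show a.val < 2 ^ 11 by omega)
        (Nat.pow_le_pow_right (by norm_num) hj))]

/-- The image of a mask under a word in the four letters and `19`. -/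
noncomputable def runM (w : List ℕ) (X : ℕ) : ℕ :=
  List.rec (motive := fun _ => ℕ → ℕ) (fun X => X) (fun k _ ih X => run (netOf k) (ih X)) w X

/-- The letters of a word have networks. -/
noncomputable def netWord (w : List ℕ) : Bool := w.all fun k => [0, 1, 16, 17, 19].contains k

theorem testBit_runM : ∀ (w : List ℕ), netWord w = true → ∀ (X : ℕ) (a : Fin 1755),
    (runM w X).testBit (wordP w a).val = X.testBit a.val
  | [], _, X, a => rfl
  | k :: w, h, X, a => by
    simp only [netWord, List.all_cons, Bool.and_eq_true, List.contains_iff_mem] at h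
    show (run (netOf k) (runM w X)).testBit (genP k (wordP w a)).val = _
    rw [run_gen h.1, testBit_runM w h.2]

/-- `w` carries the points of `m` to those of `m'`. -/
noncomputable def imgOK (w : List ℕ) (m m' : ℕ) : Bool :=
  netWord w && Nat.beq (Nat.land (runM w m) (Nat.sub (Nat.shiftLeft 1 1755) 1)) m'

theorem testBit_full (i : ℕ) : (Nat.sub (Nat.shiftLeft 1 1755) 1).testBit i = decide (i < 1755) := by
  show (1 <<< 1755 - 1).testBit i = _
  rw [Nat.shiftLeft_eq, one_mul, Nat.testBit_two_pow_sub_one]

theorem img_bit {w : List ℕ} {m m' : ℕ} (h : imgOK w m m' = true) (a : Fin 1755) :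
    m'.testBit (wordP w a).val = m.testBit a.val := by
  simp only [imgOK, Bool.and_eq_true, Nat.beq_eq] at h
  rw [← h.2, show Nat.land (runM w m) _ = runM w m &&& Nat.sub (Nat.shiftLeft 1 1755) 1 from rfl,
    Nat.testBit_and, testBit_full, decide_eq_true (wordP w a).isLt, Bool.and_true, testBit_runM w h.1]

theorem smul_ofMask {w : List ℕ} {m m' : ℕ} (h : imgOK w m m' = true) :
    wordP w • ofMask m = ofMask m' := by
  ext i
  rw [← Finset.inv_smul_mem_iff, mem_ofMask, mem_ofMask, Equiv.Perm.smul_def]
  have h1 := img_bit h ((wordP w)⁻¹ i)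
  rw [← Equiv.Perm.mul_apply, mul_inv_cancel, Equiv.Perm.one_apply] at h1
  rw [h1]

/-- An orbit tree: successor table for `m` generators and, for every later entry, a parent. -/
noncomputable def treeOK (step : ℕ → ℕ → ℕ → Bool) (m n : ℕ) (nxt par : ℕ → ℕ) : Bool :=
  (forallLt n fun i => forallLt m fun k => Nat.blt (nxt (Nat.add (Nat.mul i m) k)) n &&
      step i k (nxt (Nat.add (Nat.mul i m) k))) &&
    forallLt n fun j => Nat.beq j 0 || (Nat.blt (Nat.div (par j) m) j && Nat.beq (nxt (par j)) j)

theorem orbit_of_tree {α : Type*} [MulAction (Equiv.Perm (Fin 1755)) α] (gs : List (Equiv.Perm (Fin 1755)))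
    (n : ℕ) (f : ℕ → α) (step : ℕ → ℕ → ℕ → Bool) (nxt par : ℕ → ℕ)
    (hstep : ∀ i k j, k < gs.length → i < n → j < n → step i k j = true → gs.getD k 1 • f i = f j)
    (hm : 0 < gs.length) (h : treeOK step gs.length n nxt par = true) :
    (∀ j < n, ∃ g ∈ Subgroup.closure {p | p ∈ gs}, g • f 0 = f j) ∧
      ∀ g ∈ Subgroup.closure {p | p ∈ gs}, ∀ i < n, ∃ j < n, g • f i = f j := by
  simp only [treeOK, Bool.and_eq_true] at h
  obtain ⟨hnext', hpar'⟩ := h
  have hnext : ∀ i < n, ∀ k < gs.length,
      nxt (i * gs.length + k) < n ∧ step i k (nxt (i * gs.length + k)) = true := fun i hi k hk => by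
    have := forallLt_elim (forallLt_elim hnext' hi) hk
    simp only [Bool.and_eq_true, Nat.blt_eq] at this
    exact this
  have hpar : ∀ j < n, j = 0 ∨ (par j / gs.length < j ∧ nxt (par j) = j) := fun j hj => by
    have := forallLt_elim hpar' hj
    simp only [Bool.or_eq_true, Bool.and_eq_true, Nat.blt_eq, Nat.beq_eq] at this
    exact this
  constructor
  · intro j
    induction j using Nat.strong_induction_on with
    | _ j ih =>
      intro hj
      rcases Nat.eq_zero_or_pos j with rfl | hpos
      · exact ⟨1, one_mem _, one_smul _ _⟩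
      obtain ⟨h1, h2⟩ := (hpar j hj).resolve_left (by omega)
      set i := par j / gs.length with hi
      set k := par j % gs.length with hk
      have hk' : k < gs.length := Nat.mod_lt _ hm
      have hik : i * gs.length + k = par j := by
        rw [hi, hk, Nat.mul_comm]; exact Nat.div_add_mod _ _
      obtain ⟨hlt, hs⟩ := hnext i (by omega) k hk'
      rw [hik, h2] at hs
      obtain ⟨g, hg, he⟩ := ih i h1 (by omega)
      refine ⟨gs.getD k 1 * g, mul_mem (Subgroup.subset_closure ?_) hg, ?_⟩
      · rw [List.getD_eq_getElem _ _ hk']; exact List.getElem_mem hk'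
      · rw [mul_smul, he]; exact hstep i k j hk' (by omega) hj hs
  · intro g hg
    let A : Set α := f '' {i | i < n}
    have hfin : A.Finite := (Set.finite_lt_nat n).image f
    have hA : g ∈ MulAction.stabilizer (Equiv.Perm (Fin 1755)) A := by
      refine (Subgroup.closure_le _).2 ?_ hg
      intro p hp
      obtain ⟨k, hk, rfl⟩ := List.getElem_of_mem hp
      refine MulAction.mem_stabilizer_iff.2 (Set.eq_of_subset_of_ncard_le ?_ ?_ hfin)
      · rintro _ ⟨_, ⟨i, hi, rfl⟩, rfl⟩
        obtain ⟨hlt, hs⟩ := hnext i hi k hk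
        refine ⟨_, hlt, ?_⟩
        have := hstep i k _ hk hi hlt hs
        rw [List.getD_eq_getElem _ _ hk] at this
        exact this.symm
      · rw [Set.ncard_smul_set]
    intro i hi
    have : g • f i ∈ A := by
      rw [← MulAction.mem_stabilizer_iff.1 hA]
      exact Set.smul_mem_smul_set ⟨i, hi, rfl⟩
    obtain ⟨j, hj, hje⟩ := this
    exact ⟨j, hj, hje.symm⟩

/-- The point with a given number. -/
def ptAt (x : ℕ) : Fin 1755 := ⟨x % 1755, Nat.mod_lt _ (by norm_num)⟩

theorem ptAt_val (x : Fin 1755) : ptAt x.val = x := Fin.ext (Nat.mod_eq_of_lt x.isLt)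

theorem wordP_ptAt {w : List ℕ} (hw : wordOK w = true) {x : ℕ} (hx : x < 1755) :
    wordP w (ptAt x) = ptAt (wordN w x) := by
  have h0 : (ptAt x).val = x := Nat.mod_eq_of_lt hx
  refine Fin.ext ?_
  show (wordP w (ptAt x)).val = wordN w x % 1755
  have h := wordP_val w hw (ptAt x)
  rw [h0] at h
  rw [h, Nat.mod_eq_of_lt (h ▸ (wordP w (ptAt x)).isLt)]

end CfsgLib.Recog.RuRankThree
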