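import Mathlib

/-!
# A clique of 28 points in a graph on 4060 points with valency 1755 and 730 common neighbours of adjacent points
-/

set_option autoImplicit false

namespace CfsgLib.Recog.RuRankThree

/-- Every point outside the clique is adjacent to exactly twelve of its points. -/
theorem clique_meets {Ω : Type*} [Fintype Ω] [DecidableEq Ω] (A : Ω → Ω → Prop) [DecidableRel A]
    (hΩ : Fintype.card Ω = 4060) (hirr : ∀ u, ¬ A u u)
    (hdeg : ∀ u, (Finset.univ.filter fun z => A u z).card = 1755)
    (hlam : ∀ u v, A u v → (Finset.univ.filter fun z => A u z ∧ A v z).card = 730)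
    (K : Finset Ω) (hK : K.card = 28) (hcl : ∀ u ∈ K, ∀ v ∈ K, u ≠ v → A u v) :
    ∀ z ∉ K, (K.filter fun u => A u z).card = 12 := by
  have hnb : ∀ u ∈ K, (Kᶜ.filter fun z => A u z).card = 1728 := by
    intro u hu
    have hin : K.filter (fun z => A u z) = K.erase u := by
      ext z
      simp only [Finset.mem_filter, Finset.mem_erase]
      exact ⟨fun h => ⟨fun e => hirr u (e ▸ h.2), h.1⟩, fun h => ⟨h.2, hcl u hu z h.2 (Ne.symm h.1)⟩⟩
    have htot := Finset.card_filter_add_card_filter_not (s := Finset.univ.filter fun z => A u z) (fun z => z ∈ K)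
    rw [hdeg, Finset.filter_filter, Finset.filter_filter] at htot
    have e1 : (Finset.univ.filter fun z => A u z ∧ z ∈ K) = K.filter (fun z => A u z) := by
      ext z; simp [and_comm]
    have e2 : (Finset.univ.filter fun z => A u z ∧ ¬ z ∈ K) = Kᶜ.filter (fun z => A u z) := by
      ext z; simp [and_comm]
    rw [e1, e2, hin, Finset.card_erase_of_mem hu, hK] at htot
    omega
  have hpr : ∀ u ∈ K, ∀ v ∈ K, u ≠ v → (Kᶜ.filter fun z => A u z ∧ A v z).card = 704 := by
    intro u hu v hv huv
    have hin : K.filter (fun z => A u z ∧ A v z) = (K.erase u).erase v := by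
      ext z
      simp only [Finset.mem_filter, Finset.mem_erase]
      exact ⟨fun h => ⟨fun e => hirr v (e ▸ h.2.2), fun e => hirr u (e ▸ h.2.1), h.1⟩,
        fun h => ⟨h.2.2, hcl u hu z h.2.2 (Ne.symm h.2.1), hcl v hv z h.2.2 (Ne.symm h.1)⟩⟩
    have htot := Finset.card_filter_add_card_filter_not (s := Finset.univ.filter fun z => A u z ∧ A v z)
      (fun z => z ∈ K)
    rw [hlam u v (hcl u hu v hv huv), Finset.filter_filter, Finset.filter_filter] at htot
    have e1 : (Finset.univ.filter fun z => (A u z ∧ A v z) ∧ z ∈ K) = K.filter (fun z => A u z ∧ A v z) := by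
      ext z; simp [and_comm]
    have e2 : (Finset.univ.filter fun z => (A u z ∧ A v z) ∧ ¬ z ∈ K) = Kᶜ.filter (fun z => A u z ∧ A v z) := by
      ext z; simp [and_comm]
    rw [e1, e2, hin, Finset.card_erase_of_mem (Finset.mem_erase.2 ⟨Ne.symm huv, hv⟩),
      Finset.card_erase_of_mem hu, hK] at htot
    omega
  let f : Ω → ℤ := fun z => ((K.filter fun u => A u z).card : ℤ)
  have hs1 : ∑ z ∈ Kᶜ, f z = 48384 := by
    simp only [f]
    rw [← Nat.cast_sum]
    have h := Finset.sum_card_bipartiteAbove_eq_sum_card_bipartiteBelow (fun u z => A u z) (s := K) (t := Kᶜ)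
    simp only [Finset.bipartiteAbove, Finset.bipartiteBelow] at h
    rw [← h, Finset.sum_congr rfl hnb, Finset.sum_const, hK]
    norm_num
  have hs2 : ∑ z ∈ Kᶜ, f z ^ 2 = 580608 := by
    have hsq : ∀ z, f z ^ 2 = (((K ×ˢ K).filter fun p => A p.1 z ∧ A p.2 z).card : ℤ) := by
      intro z
      simp only [f]
      rw [Finset.filter_product (fun u => A u z) (fun u => A u z), Finset.card_product, Nat.cast_mul, sq]
    simp only [hsq]
    rw [← Nat.cast_sum]
    have h := Finset.sum_card_bipartiteAbove_eq_sum_card_bipartiteBelow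
      (fun p z => A p.1 z ∧ A p.2 z) (s := K ×ˢ K) (t := Kᶜ)
    simp only [Finset.bipartiteAbove, Finset.bipartiteBelow] at h
    rw [← h, Finset.sum_product]
    have hrow : ∀ u ∈ K, (∑ v ∈ K, (Kᶜ.filter fun z => A u z ∧ A v z).card) = 20736 := by
      intro u hu
      rw [← Finset.sum_erase_add _ _ hu,
        Finset.sum_congr rfl (g := fun _ => 704) (fun v hv =>
          hpr u hu v (Finset.mem_of_mem_erase hv) (Ne.symm (Finset.ne_of_mem_erase hv))),
        Finset.sum_const, Finset.card_erase_of_mem hu, hK]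
      simp only [and_self, hnb u hu]
      norm_num
    rw [Finset.sum_congr rfl hrow, Finset.sum_const, hK]
    norm_num
  have hzero : ∑ z ∈ Kᶜ, (f z - 12) ^ 2 = 0 := by
    have : ∀ z, (f z - 12) ^ 2 = f z ^ 2 - 24 * f z + 144 := fun z => by ring
    simp only [this, Finset.sum_add_distrib, Finset.sum_sub_distrib, ← Finset.mul_sum, hs1, hs2,
      Finset.sum_const, Finset.card_compl, hK, hΩ]
    norm_num
  intro z hz
  have h0 := (Finset.sum_eq_zero_iff_of_nonneg fun w _ => sq_nonneg (f w - 12)).1 hzero z (Finset.mem_compl.2 hz)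
  have h2 : f z = 12 := by
    have := pow_eq_zero_iff (n := 2) (by norm_num) |>.1 h0
    linarith
  simp only [f] at h2
  exact_mod_cast h2

end CfsgLib.Recog.RuRankThree
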