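import Cfsg.Agent.Lib.Recog.RuRankThree.SearchChecks

/-!
# The checks of the family and of the lines
-/

set_option autoImplicit false
set_option maxRecDepth 100000
set_option Elab.async false

namespace CfsgLib.Recog.RuRankThree

open CfsgLib.Sporadic (forallLt countLt)

/-- A step between sets of the family. -/
noncomputable def famStep (i k j : ℕ) : Bool := imgOK (fourWords.getD k []) (famM i) (famM j)

theorem fam_tree : treeOK famStep 4 2304 (famNext.field 16) (famPar.field 16) = true := by decide +kernel

/-- The entries are strictly increasing in the sorted order. -/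
noncomputable def famSorted (i : ℕ) : Bool :=
  Nat.blt (famSrt.field 16 i) 2304 &&
    (Nat.beq (Nat.add i 1) 2304 || Nat.blt (famM (famSrt.field 16 i)) (famM (famSrt.field 16 (Nat.add i 1))))

theorem fam_sorted : forallLt 2304 famSorted = true := by decide +kernel

theorem root_list : incB root = true ∧ root.length = 780 ∧ root.all (fun x => Nat.blt x 1755) = true ∧
    Nat.beq (List.rec 0 (fun x _ acc => Nat.lor acc (Nat.shiftLeft 1 x)) root) (famM 0) = true := by
  decide +kernel

/-- Strike out the lowest elements. -/
noncomputable def strip (k m : ℕ) : ℕ := Nat.rec m (fun _ ih => Nat.land ih (Nat.sub ih 1)) k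

/-- The meet with the first set. -/
noncomputable def meetM (j : ℕ) : ℕ := Nat.land (famM j) (famM 0)

/-- Exactly 332 common elements. -/
noncomputable def meetEq (j : ℕ) : Bool :=
  ! Nat.beq (strip 331 (meetM j)) 0 && Nat.beq (strip 332 (meetM j)) 0

/-- At least 332 common elements in a range, and the number with exactly as many. -/
noncomputable def meetRange (o c : ℕ) : Bool :=
  forallLt 576 (fun i => ! Nat.beq (strip 331 (meetM (Nat.add o i))) 0) &&
    Nat.beq (countLt 576 fun i => meetEq (Nat.add o i)) c

theorem meet0 : meetRange 0 231 = true := by decide +kernel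

theorem meet1 : meetRange 576 262 = true := by decide +kernel

theorem meet2 : meetRange 1152 246 = true := by decide +kernel

theorem meet3 : meetRange 1728 236 = true := by decide +kernel

/-- The edges from some points of the first set into it. -/
noncomputable def edgesOf (l : List ℕ) : ℕ := List.rec 0 (fun x _ acc => Nat.add (root.countP (aB x)) acc) l

theorem edges0 : edgesOf ((root.drop 0).take 195) = 61425 := by decide +kernel

theorem edges1 : edgesOf ((root.drop 195).take 195) = 61425 := by decide +kernel

theorem edges2 : edgesOf ((root.drop 390).take 195) = 61425 := by decide +kernel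

theorem edges3 : edgesOf (root.drop 585) = 61425 := by decide +kernel

/-- A step between lines. -/
noncomputable def lineStep (i k j : ℕ) : Bool :=
  wordOK (fourWords.getD k []) &&
    forallLt 3 fun q => Nat.blt (linePt i q) 1755 &&
      (Nat.beq (wordN (fourWords.getD k []) (linePt i q)) (linePt j 0) ||
        (Nat.beq (wordN (fourWords.getD k []) (linePt i q)) (linePt j 1) ||
          Nat.beq (wordN (fourWords.getD k []) (linePt i q)) (linePt j 2)))

theorem line_tree : treeOK lineStep 4 2925 (lineNext.field 16) (linePar.field 16) = true := by decide +kernel

/-- A line has three increasing points, and the lines increase in the sorted order. -/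
noncomputable def lineOK (i : ℕ) : Bool :=
  Nat.blt (linePt i 0) (linePt i 1) && Nat.blt (linePt i 1) (linePt i 2) && Nat.blt (linePt i 2) 1755 &&
    Nat.blt (lineT.field 33 i) (Nat.shiftLeft 1 33) && Nat.blt (lineSrt.field 16 i) 2925 &&
      (Nat.beq (Nat.add i 1) 2925 ||
        Nat.blt (lineT.field 33 (lineSrt.field 16 i)) (lineT.field 33 (lineSrt.field 16 (Nat.add i 1))))

theorem lines_ok : forallLt 2925 lineOK = true := by decide +kernel

end CfsgLib.Recog.RuRankThree
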