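import Cfsg.Agent.Lib.Recog.RuRankThree.Action
import Cfsg.Agent.Lib.Recog.RuRankThree.FamChecks

/-!
# The family of 2304 sets of 780 points and the 2925 lines
-/

set_option autoImplicit false
set_option maxRecDepth 10000

namespace CfsgLib.Recog.RuRankThree

open MulAction
open scoped Pointwise
open CfsgLib.Sporadic (forallLt forallLt_elim countLt countLt_eq)

theorem sorted_inj {n : ℕ} {val srt : ℕ → ℕ} (hlt : ∀ i < n, srt i < n)
    (hstep : ∀ i, i + 1 < n → val (srt i) < val (srt (i + 1))) {a b : ℕ} (ha : a < n) (hb : b < n)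
    (h : val a = val b) : a = b := by
  let σ : Fin n → Fin n := fun k => ⟨_, hlt k.val k.isLt⟩
  have hσ : StrictMono fun k : Fin n => val (σ k).val := by
    intro x y hxy
    have key : ∀ d k, k + d + 1 < n → val (srt k) < val (srt (k + d + 1)) := by
      intro d
      induction d with
      | zero => exact hstep
      | succ d ih => intro k hk; exact (ih k (by omega)).trans (hstep (k + d + 1) hk)
    have hxy' : x.val < y.val := hxy
    have := key (y.val - x.val - 1) x.val (by omega)
    rwa [show x.val + (y.val - x.val - 1) + 1 = y.val by omega] at this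
  have hsurj : Function.Surjective σ :=
    Finite.surjective_of_injective fun x y e => hσ.injective (by simp only [e])
  obtain ⟨x, hx⟩ := hsurj ⟨a, ha⟩
  obtain ⟨y, hy⟩ := hsurj ⟨b, hb⟩
  have hxy : x = y := hσ.injective (by simp only [hx, hy]; exact h)
  rw [hxy, hy] at hx
  exact (congrArg Fin.val hx).symm

/-- A set of the family. -/
noncomputable def famS (i : ℕ) : Finset (Fin 1755) := ofMask (famM i)

theorem famM_lt (i : ℕ) : famM i < 2 ^ 1755 := by
  show Nat.land _ (Nat.sub (Nat.shiftLeft 1 1755) 1) < _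
  refine Nat.and_lt_two_pow _ ?_
  show (1 <<< 1755) - 1 < _
  rw [Nat.shiftLeft_eq, one_mul]
  exact Nat.sub_lt (Nat.two_pow_pos _) one_pos

theorem famS_inj {i j : ℕ} (hi : i < 2304) (hj : j < 2304) (h : famS i = famS j) : i = j := by
  have key : ∀ k < 2304, famSrt.field 16 k < 2304 ∧
      (k + 1 = 2304 ∨ famM (famSrt.field 16 k) < famM (famSrt.field 16 (k + 1))) := fun k hk => by
    have := forallLt_elim fam_sorted hk
    simp only [famSorted, Bool.and_eq_true, Bool.or_eq_true, Nat.blt_eq, Nat.beq_eq] at this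
    exact this
  exact sorted_inj (fun k hk => (key k hk).1) (fun k hk => (key k (by omega)).2.resolve_left (by omega)) hi hj
    (ofMask_inj (famM_lt i) (famM_lt j) h)

theorem fourWords_mem {g : Equiv.Perm (Fin 1755)}
    (hg : g ∈ Subgroup.closure {p | p ∈ fourWords.map wordP}) : g ∈ Lgrp := by
  refine (Subgroup.closure_le _).2 ?_ hg
  intro p hp
  obtain ⟨w, hw, rfl⟩ := List.mem_map.1 (show p ∈ fourWords.map wordP from hp)
  refine wordP_mem fun l hl => ?_
  simp only [fourWords, List.mem_cons, List.not_mem_nil, or_false] at hw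
  rcases hw with rfl | rfl | rfl | rfl <;> simp at hl <;> simp [four, hl]

theorem mem_fourWords {g : Equiv.Perm (Fin 1755)} (hg : g ∈ Lgrp) :
    g ∈ Subgroup.closure {p | p ∈ fourWords.map wordP} := by
  refine (Subgroup.closure_le _).2 ?_ hg
  rintro _ ⟨l, hl, rfl⟩
  refine Subgroup.subset_closure ?_
  show genP l ∈ fourWords.map wordP
  rw [show genP l = wordP [l] from (mul_one _).symm]
  refine List.mem_map_of_mem ?_
  simp only [four, List.mem_cons, List.not_mem_nil, or_false, Set.mem_ofPred_eq] at hl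
  rcases hl with rfl | rfl | rfl | rfl <;> simp [fourWords]

theorem fam_orbit_tree :
    (∀ j < 2304, ∃ g ∈ Subgroup.closure {p | p ∈ fourWords.map wordP}, g • famS 0 = famS j) ∧
      ∀ g ∈ Subgroup.closure {p | p ∈ fourWords.map wordP}, ∀ i < 2304, ∃ j < 2304, g • famS i = famS j :=
  orbit_of_tree (fourWords.map wordP) 2304 famS famStep (famNext.field 16) (famPar.field 16)
    (fun i k j hk _ _ hs => by
      rw [List.length_map] at hk
      rw [List.getD_eq_getElem _ _ (by rwa [List.length_map]), List.getElem_map, ← List.getD_eq_getElem _ [] hk]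
      exact smul_ofMask hs)
    (by decide) fam_tree

theorem fam_move {j : ℕ} (hj : j < 2304) : ∃ g ∈ Lgrp, g • famS 0 = famS j := by
  obtain ⟨g, hg, e⟩ := fam_orbit_tree.1 j hj
  exact ⟨g, fourWords_mem hg, e⟩

theorem fam_smul {g : Equiv.Perm (Fin 1755)} (hg : g ∈ Lgrp) {i : ℕ} (hi : i < 2304) :
    ∃ j < 2304, g • famS i = famS j :=
  fam_orbit_tree.2 g (mem_fourWords hg) i hi

theorem mem_famS_zero {x : Fin 1755} : x ∈ famS 0 ↔ x.val ∈ root := by
  rw [famS, mem_ofMask, ← Nat.eq_of_beq_eq_true root_list.2.2.2]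
  induction root with
  | nil => simp
  | cons a l ih =>
    show ((List.rec 0 (fun x _ acc => Nat.lor acc (Nat.shiftLeft 1 x)) l : ℕ) ||| (1 <<< a)).testBit _ = true ↔ _
    rw [Nat.testBit_or, Bool.or_eq_true, ih, List.mem_cons, Nat.shiftLeft_eq, one_mul, Nat.testBit_two_pow,
      decide_eq_true_eq]
    exact ⟨fun h => h.symm.imp Eq.symm id, fun h => h.symm.imp id Eq.symm⟩

theorem incB_spec : ∀ (l : List ℕ) (lo : ℕ),
    (List.rec (motive := fun _ => ℕ → Bool) (fun _ => true)
      (fun a _ ih lo => Nat.ble lo a && ih (Nat.add a 1)) l lo) = true → (∀ a ∈ l, lo ≤ a) ∧ l.Nodup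
  | [], lo, _ => ⟨by simp, List.nodup_nil⟩
  | a :: l, lo, h => by
    replace h : (Nat.ble lo a && List.rec (motive := fun _ => ℕ → Bool) (fun _ => true)
      (fun a _ ih lo => Nat.ble lo a && ih (Nat.add a 1)) l (a + 1)) = true := h
    rw [Bool.and_eq_true, Nat.ble_eq] at h
    obtain ⟨h1, h2⟩ := incB_spec l (a + 1) h.2
    refine ⟨fun b hb => ?_, List.nodup_cons.2 ⟨fun ha => by have := h1 a ha; omega, h2⟩⟩
    rcases List.mem_cons.1 hb with rfl | hb
    · exact h.1
    · have := h1 b hb; omega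

theorem famS_zero_toFinset (p : Fin 1755 → Prop) [DecidablePred p] (q : ℕ → Bool)
    (hpq : ∀ x : Fin 1755, p x ↔ q x.val = true) : ((famS 0).filter p).card = root.countP q := by
  rw [List.countP_eq_length_filter, ← List.toFinset_card_of_nodup ((incB_spec root 0 root_list.1).2.filter _)]
  refine Finset.card_bij (fun x _ => x.val) ?_ ?_ ?_
  · intro x hx
    rw [Finset.mem_filter, mem_famS_zero, hpq] at hx
    rw [List.mem_toFinset, List.mem_filter]
    exact hx
  · intro x _ y _ h
    exact Fin.ext h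
  · intro a ha
    rw [List.mem_toFinset, List.mem_filter] at ha
    have hlt : a < 1755 := Nat.blt_eq.mp (List.all_eq_true.1 root_list.2.2.1 a ha.1)
    exact ⟨⟨a, hlt⟩, by rw [Finset.mem_filter, mem_famS_zero, hpq]; exact ha, rfl⟩

theorem famS_zero_card : (famS 0).card = 780 := by
  have h := famS_zero_toFinset (fun _ => True) (fun _ => true) (by simp)
  rw [Finset.filter_true_of_mem (fun _ _ => trivial), List.countP_true, root_list.2.1] at h
  exact h

theorem famS_card {j : ℕ} (hj : j < 2304) : (famS j).card = 780 := by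
  obtain ⟨g, -, e⟩ := fam_move hj
  rw [← e, Finset.card_smul_finset, famS_zero_card]

theorem edgesOf_eq : ∀ l : List ℕ, edgesOf l = (l.map fun x => root.countP (aB x)).sum
  | [] => rfl
  | a :: l => by
    show root.countP (aB a) + edgesOf l = _
    rw [edgesOf_eq l]; rfl

/-- The ordered edges inside the first set. -/
theorem fam_edges : ∑ x ∈ famS 0, ((famS 0).filter fun y => aadj x y).card = 245700 := by
  have h1 : ∀ x : Fin 1755, ((famS 0).filter fun y => aadj x y).card = root.countP (aB x.val) := fun x =>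
    famS_zero_toFinset _ _ fun y => Iff.rfl
  rw [Finset.sum_congr rfl fun x _ => h1 x]
  have hnd := (incB_spec root 0 root_list.1).2
  have h2 : ∑ x ∈ famS 0, root.countP (aB x.val) = edgesOf root := by
    rw [edgesOf_eq, ← List.sum_toFinset _ hnd]
    refine Finset.sum_bij (fun x _ => x.val) ?_ ?_ ?_ fun x _ => rfl
    · intro x hx; rw [List.mem_toFinset]; exact mem_famS_zero.1 hx
    · intro x _ y _ h; exact Fin.ext h
    · intro a ha
      rw [List.mem_toFinset] at ha
      have hlt : a < 1755 := Nat.blt_eq.mp (List.all_eq_true.1 root_list.2.2.1 a ha)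
      exact ⟨⟨a, hlt⟩, mem_famS_zero.2 ha, rfl⟩
  rw [h2]
  have e1 := edges0
  have e2 := edges1
  have e3 := edges2
  have e4 := edges3
  simp only [edgesOf_eq, List.map_take, List.map_drop] at e1 e2 e3 e4 ⊢
  set L := root.map fun x => root.countP (aB x)
  have s1 := List.take_append_drop 195 L
  have s2 := List.take_append_drop 195 (L.drop 195)
  have s3 := List.take_append_drop 195 (L.drop 390)
  rw [List.drop_drop] at s2 s3
  norm_num at s2 s3
  have t1 := congrArg List.sum s1
  have t2 := congrArg List.sum s2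
  have t3 := congrArg List.sum s3
  rw [List.sum_append] at t1 t2 t3
  rw [List.drop_zero] at e1
  omega

theorem exists_low {m : ℕ} (hm : m ≠ 0) : ∃ i q, m = 2 ^ i * (2 * q + 1) := by
  induction m using Nat.strong_induction_on with
  | _ m ih =>
    rcases Nat.even_or_odd' m with ⟨q, rfl | rfl⟩
    · obtain ⟨i, r, e⟩ := ih q (by omega) (by omega)
      exact ⟨i + 1, r, by rw [e, pow_succ]; ring⟩
    · exact ⟨0, q, by simp⟩

theorem ofMask_strip {m : ℕ} (hm : m < 2 ^ 1755) :
    (ofMask (Nat.land m (Nat.sub m 1))).card = (ofMask m).card - 1 := by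
  rcases Nat.eq_zero_or_pos m with rfl | hpos
  · simp [ofMask]
  obtain ⟨i, q, e⟩ := exists_low (m := m) (by omega)
  have hi : i < 1755 := by
    by_contra hge
    have h1 : 2 ^ 1755 ≤ 2 ^ i := Nat.pow_le_pow_right (by norm_num) (Nat.le_of_not_lt hge)
    have h2 : 2 ^ i ≤ m := e ▸ Nat.le_mul_of_pos_right _ (by omega)
    omega
  have hbit : ∀ j, m.testBit j = (if j < i then false else (2 * q + 1).testBit (j - i)) := fun j => by
    rw [e, show 2 ^ i * (2 * q + 1) = 2 ^ i * (2 * q + 1) + 0 from rfl,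
      Nat.testBit_two_pow_mul_add _ (Nat.two_pow_pos i), Nat.zero_testBit]
  have hbit' : ∀ j, (m - 1).testBit j = (if j < i then true else (2 * q).testBit (j - i)) := fun j => by
    have e' : m - 1 = 2 ^ i * (2 * q) + (2 ^ i - 1) := by
      have := Nat.two_pow_pos i
      rw [e, Nat.mul_add, Nat.mul_one]; omega
    rw [e', Nat.testBit_two_pow_mul_add _ (Nat.sub_lt (Nat.two_pow_pos i) one_pos),
      Nat.testBit_two_pow_sub_one]
    split_ifs <;> simp [*]
  have hset : ofMask (Nat.land m (Nat.sub m 1)) = (ofMask m).erase ⟨i, hi⟩ := by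
    ext x
    rw [Finset.mem_erase, mem_ofMask, mem_ofMask]
    show (m &&& (m - 1)).testBit x.val = true ↔ _
    rw [Nat.testBit_and, hbit, hbit']
    rcases lt_trichotomy x.val i with h | h | h
    · simp [h]
    · simp [h, Fin.ext_iff, Nat.testBit_eq_decide_div_mod_eq]
    · obtain ⟨k, hk⟩ : ∃ k, x.val - i = k + 1 := ⟨x.val - i - 1, by omega⟩
      have h3 : (2 * q + 1).testBit (k + 1) = (2 * q).testBit (k + 1) := by
        rw [Nat.testBit_succ, Nat.testBit_succ]; congr 1; omega
      simp [show ¬ x.val < i by omega, Fin.ext_iff, hk, h3, show x.val ≠ i by omega]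
  rw [hset, Finset.card_erase_of_mem (mem_ofMask.2 (by rw [hbit]; simp [Nat.testBit_eq_decide_div_mod_eq]))]

theorem strip_spec {m : ℕ} (hm : m < 2 ^ 1755) : ∀ k, strip k m < 2 ^ 1755 ∧
    (ofMask (strip k m)).card = (ofMask m).card - k
  | 0 => ⟨hm, rfl⟩
  | k + 1 => by
    obtain ⟨h1, h2⟩ := strip_spec hm k
    refine ⟨lt_of_le_of_lt Nat.and_le_left h1, ?_⟩
    show (ofMask (Nat.land (strip k m) (Nat.sub (strip k m) 1))).card = _
    rw [ofMask_strip h1, h2]
    omega

theorem strip_zero {m : ℕ} (hm : m < 2 ^ 1755) (k : ℕ) :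
    (Nat.beq (strip k m) 0 = true ↔ (ofMask m).card ≤ k) := by
  obtain ⟨h1, h2⟩ := strip_spec hm k
  rw [Nat.beq_eq]
  constructor
  · intro h
    rw [h] at h2
    have : (ofMask 0).card = 0 := by simp [ofMask]
    omega
  · intro h
    refine ofMask_inj h1 (Nat.two_pow_pos _) ?_
    rw [show ofMask 0 = ∅ by simp [ofMask], ← Finset.card_eq_zero, h2]
    omega

theorem meetM_spec (j : ℕ) : meetM j < 2 ^ 1755 ∧ ofMask (meetM j) = famS j ∩ famS 0 := by
  refine ⟨lt_of_le_of_lt Nat.and_le_left (famM_lt j), ?_⟩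
  ext x
  rw [Finset.mem_inter, famS, famS, mem_ofMask, mem_ofMask, mem_ofMask]
  show (famM j &&& famM 0).testBit _ = true ↔ _
  rw [Nat.testBit_and, Bool.and_eq_true]

theorem meet_facts :
    (∀ j < 2304, 332 ≤ (famS j ∩ famS 0).card) ∧
      ((Finset.range 2304).filter fun j => (famS j ∩ famS 0).card = 332).card = 975 := by
  have hge : ∀ j, (! Nat.beq (strip 331 (meetM j)) 0) = true → 332 ≤ (famS j ∩ famS 0).card := fun j h => by
    obtain ⟨h1, h2⟩ := meetM_spec j
    rw [Bool.not_eq_true', ← Bool.not_eq_true, strip_zero h1, h2] at h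
    omega
  have heq : ∀ j, meetEq j = true ↔ (famS j ∩ famS 0).card = 332 := fun j => by
    obtain ⟨h1, h2⟩ := meetM_spec j
    rw [meetEq, Bool.and_eq_true, Bool.not_eq_true', ← Bool.not_eq_true, strip_zero h1, strip_zero h1, h2]
    omega
  have key : ∀ o c, meetRange o c = true → (∀ j, o ≤ j → j < o + 576 → 332 ≤ (famS j ∩ famS 0).card) ∧
      ((Finset.Ico o (o + 576)).filter fun j => (famS j ∩ famS 0).card = 332).card = c := by
    intro o c h
    rw [meetRange, Bool.and_eq_true, Nat.beq_eq] at h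
    constructor
    · intro j hj hj'
      have := forallLt_elim h.1 (show j - o < 576 by omega)
      rw [show Nat.add o (j - o) = j from Nat.add_sub_cancel' hj] at this
      exact hge j this
    · rw [← h.2, countLt_eq]
      refine Finset.card_bij (fun j _ => j - o) ?_ ?_ ?_
      · intro j hj
        rw [Finset.mem_filter, Finset.mem_Ico] at hj
        rw [Finset.mem_filter, Finset.mem_range, show Nat.add o (j - o) = j from Nat.add_sub_cancel' hj.1.1, heq]
        exact ⟨by omega, hj.2⟩
      · intro j hj k hk e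
        rw [Finset.mem_filter, Finset.mem_Ico] at hj hk
        omega
      · intro i hi
        rw [Finset.mem_filter, Finset.mem_range, heq] at hi
        refine ⟨o + i, ?_, by omega⟩
        rw [Finset.mem_filter, Finset.mem_Ico]
        exact ⟨by omega, hi.2⟩
  obtain ⟨a0, b0⟩ := key 0 231 meet0
  obtain ⟨a1, b1⟩ := key 576 262 meet1
  obtain ⟨a2, b2⟩ := key 1152 246 meet2
  obtain ⟨a3, b3⟩ := key 1728 236 meet3
  constructor
  · intro j hj
    rcases Nat.lt_or_ge j 576 with h | h
    · exact a0 j (by omega) h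
    rcases Nat.lt_or_ge j 1152 with h' | h'
    · exact a1 j h h'
    rcases Nat.lt_or_ge j 1728 with h'' | h''
    · exact a2 j h' h''
    · exact a3 j h'' hj
  · simp only [Nat.zero_add] at b0
    rw [Finset.range_eq_Ico, ← Finset.Ico_union_Ico_eq_Ico (show 0 ≤ 576 by norm_num) (show 576 ≤ 2304 by norm_num),
      ← Finset.Ico_union_Ico_eq_Ico (show 576 ≤ 1152 by norm_num) (show 1152 ≤ 2304 by norm_num),
      ← Finset.Ico_union_Ico_eq_Ico (show 1152 ≤ 1728 by norm_num) (show 1728 ≤ 2304 by norm_num),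
      Finset.filter_union, Finset.filter_union, Finset.filter_union, Finset.card_union_of_disjoint,
      Finset.card_union_of_disjoint, Finset.card_union_of_disjoint]
    · norm_num at b0 b1 b2 b3 ⊢; omega
    all_goals
      rw [Finset.disjoint_left]
      intro j h1 h2
      simp only [Finset.mem_union, Finset.mem_filter, Finset.mem_Ico] at h1 h2
      omega

/-! ### lines -/

/-- A line. -/
noncomputable def lineS (j : ℕ) : Finset (Fin 1755) := {ptAt (linePt j 0), ptAt (linePt j 1), ptAt (linePt j 2)}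

theorem line_bounds {j : ℕ} (hj : j < 2925) :
    linePt j 0 < linePt j 1 ∧ linePt j 1 < linePt j 2 ∧ linePt j 2 < 1755 ∧ lineT.field 33 j < 2 ^ 33 := by
  have h := forallLt_elim lines_ok hj
  simp only [lineOK, Bool.and_eq_true, Nat.blt_eq] at h
  exact ⟨h.1.1.1.1.1, h.1.1.1.1.2, h.1.1.1.2, by
    have := h.1.1.2
    rwa [show Nat.shiftLeft 1 33 = 1 <<< 33 from rfl, Nat.shiftLeft_eq, one_mul] at this⟩

theorem lineS_card {j : ℕ} (hj : j < 2925) : (lineS j).card = 3 := by
  obtain ⟨h1, h2, h3, -⟩ := line_bounds hj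
  rw [lineS, Finset.card_insert_of_notMem, Finset.card_pair]
  · intro h
    have := congrArg Fin.val h
    simp only [ptAt, Nat.mod_eq_of_lt (show linePt j 1 < 1755 by omega), Nat.mod_eq_of_lt h3] at this
    omega
  · simp only [Finset.mem_insert, Finset.mem_singleton, ptAt, Fin.ext_iff,
      Nat.mod_eq_of_lt (show linePt j 0 < 1755 by omega), Nat.mod_eq_of_lt (show linePt j 1 < 1755 by omega),
      Nat.mod_eq_of_lt h3]
    omega

theorem line_code {j : ℕ} (hj : j < 2925) :
    lineT.field 33 j = linePt j 0 + 2 ^ 11 * linePt j 1 + 2 ^ 22 * linePt j 2 := by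
  obtain ⟨-, -, -, h⟩ := line_bounds hj
  simp only [linePt]
  generalize lineT.field 33 j = v at h ⊢
  show v = ((v >>> (11 * 0)) &&& (2 ^ 11 - 1)) + 2 ^ 11 * ((v >>> (11 * 1)) &&& (2 ^ 11 - 1)) +
    2 ^ 22 * ((v >>> (11 * 2)) &&& (2 ^ 11 - 1))
  rw [Nat.and_two_pow_sub_one_eq_mod, Nat.and_two_pow_sub_one_eq_mod, Nat.and_two_pow_sub_one_eq_mod,
    Nat.shiftRight_eq_div_pow, Nat.shiftRight_eq_div_pow, Nat.shiftRight_eq_div_pow]
  norm_num at h ⊢
  omega

theorem lineS_inj {i j : ℕ} (hi : i < 2925) (hj : j < 2925) (h : lineS i = lineS j) : i = j := by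
  have key : ∀ k < 2925, lineSrt.field 16 k < 2925 ∧
      (k + 1 = 2925 ∨ lineT.field 33 (lineSrt.field 16 k) < lineT.field 33 (lineSrt.field 16 (k + 1))) :=
    fun k hk => by
      have := forallLt_elim lines_ok hk
      simp only [lineOK, Bool.and_eq_true, Bool.or_eq_true, Nat.blt_eq, Nat.beq_eq] at this
      exact ⟨this.1.2, this.2⟩
  refine sorted_inj (fun k hk => (key k hk).1) (fun k hk => (key k (by omega)).2.resolve_left (by omega)) hi hj ?_
  obtain ⟨a1, a2, a3, -⟩ := line_bounds hi
  obtain ⟨b1, b2, b3, -⟩ := line_bounds hj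
  rw [line_code hi, line_code hj]
  have hm : ∀ v, v < 1755 → ((v = linePt i 0 ∨ v = linePt i 1 ∨ v = linePt i 2) ↔
      (v = linePt j 0 ∨ v = linePt j 1 ∨ v = linePt j 2)) := fun v hv => by
    have := Finset.ext_iff.1 h (ptAt v)
    simp only [lineS, Finset.mem_insert, Finset.mem_singleton, ptAt, Fin.ext_iff, Nat.mod_eq_of_lt hv,
      Nat.mod_eq_of_lt (show linePt i 0 < 1755 by omega), Nat.mod_eq_of_lt (show linePt i 1 < 1755 by omega),
      Nat.mod_eq_of_lt a3, Nat.mod_eq_of_lt (show linePt j 0 < 1755 by omega),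
      Nat.mod_eq_of_lt (show linePt j 1 < 1755 by omega), Nat.mod_eq_of_lt b3] at this
    exact this
  have q0 := (hm _ (show linePt i 0 < 1755 by omega)).1 (Or.inl rfl)
  have q1 := (hm _ (show linePt i 1 < 1755 by omega)).1 (Or.inr (Or.inl rfl))
  have q2 := (hm _ a3).1 (Or.inr (Or.inr rfl))
  omega

theorem line_orbit_tree :
    (∀ j < 2925, ∃ g ∈ Subgroup.closure {p | p ∈ fourWords.map wordP}, g • lineS 0 = lineS j) ∧
      ∀ g ∈ Subgroup.closure {p | p ∈ fourWords.map wordP}, ∀ i < 2925, ∃ j < 2925, g • lineS i = lineS j :=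
  orbit_of_tree (fourWords.map wordP) 2925 lineS lineStep (lineNext.field 16) (linePar.field 16)
    (fun i k j hk hi hj hs => by
      rw [List.length_map] at hk
      rw [List.getD_eq_getElem _ _ (by rwa [List.length_map]), List.getElem_map, ← List.getD_eq_getElem _ [] hk]
      simp only [lineStep, Bool.and_eq_true] at hs
      have hq : ∀ q < 3, wordP (fourWords.getD k []) (ptAt (linePt i q)) ∈ lineS j := fun q hq => by
        have h := forallLt_elim hs.2 hq
        simp only [Bool.and_eq_true, Bool.or_eq_true, Nat.blt_eq, Nat.beq_eq] at h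
        rw [wordP_ptAt hs.1 h.1, lineS]
        simp only [Finset.mem_insert, Finset.mem_singleton]
        rcases h.2 with e | e | e
        exacts [Or.inl (congrArg ptAt e), Or.inr (Or.inl (congrArg ptAt e)), Or.inr (Or.inr (congrArg ptAt e))]
      refine Finset.eq_of_subset_of_card_le ?_ (le_of_eq (by rw [Finset.card_smul_finset, lineS_card hi, lineS_card hj]))
      intro x hx
      rw [Finset.mem_smul_finset] at hx
      obtain ⟨y, hy, rfl⟩ := hx
      simp only [lineS, Finset.mem_insert, Finset.mem_singleton] at hy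
      rcases hy with rfl | rfl | rfl
      exacts [hq 0 (by norm_num), hq 1 (by norm_num), hq 2 (by norm_num)])
    (by decide) line_tree

/-- The lines. -/
noncomputable def Lines : Finset (Finset (Fin 1755)) := (Finset.range 2925).image lineS

theorem card_Lines : Lines.card = 2925 := by
  rw [Lines, Finset.card_image_of_injOn, Finset.card_range]
  intro i hi j hj h
  exact lineS_inj (Finset.mem_range.1 hi) (Finset.mem_range.1 hj) h

theorem Lines_smul {g : Equiv.Perm (Fin 1755)} (hg : g ∈ Lgrp) {ℓ : Finset (Fin 1755)} (h : ℓ ∈ Lines) :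
    g • ℓ ∈ Lines := by
  obtain ⟨i, hi, rfl⟩ := Finset.mem_image.1 h
  obtain ⟨j, hj, e⟩ := line_orbit_tree.2 g (mem_fourWords hg) i (Finset.mem_range.1 hi)
  exact Finset.mem_image.2 ⟨j, Finset.mem_range.2 hj, e.symm⟩

theorem Lines_trans {ℓ ℓ' : Finset (Fin 1755)} (h : ℓ ∈ Lines) (h' : ℓ' ∈ Lines) :
    ∃ g ∈ Lgrp, g • ℓ = ℓ' := by
  obtain ⟨i, hi, rfl⟩ := Finset.mem_image.1 h
  obtain ⟨j, hj, rfl⟩ := Finset.mem_image.1 h'
  obtain ⟨g, hg, e⟩ := line_orbit_tree.1 i (Finset.mem_range.1 hi)
  obtain ⟨g', hg', e'⟩ := line_orbit_tree.1 j (Finset.mem_range.1 hj)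
  exact ⟨g' * g⁻¹, mul_mem (fourWords_mem hg') (inv_mem (fourWords_mem hg)), by rw [← e, ← e', mul_smul, inv_smul_smul]⟩

/-- The number of lines inside a set. -/
noncomputable def lineCount (T : Finset (Fin 1755)) : ℕ := (Lines.filter fun ℓ => ℓ ⊆ T).card

theorem lineCount_smul {g : Equiv.Perm (Fin 1755)} (hg : g ∈ Lgrp) (T : Finset (Fin 1755)) :
    lineCount (g • T) = lineCount T := by
  refine Finset.card_bij (fun ℓ _ => g⁻¹ • ℓ) ?_ ?_ ?_
  · intro ℓ hℓ
    rw [Finset.mem_filter] at hℓ ⊢
    exact ⟨Lines_smul (inv_mem hg) hℓ.1, by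
      rw [← Finset.smul_finset_subset_smul_finset_iff (a := g), smul_inv_smul]; exact hℓ.2⟩
  · intro ℓ _ m _ h
    exact smul_left_cancel g⁻¹ h
  · intro ℓ hℓ
    rw [Finset.mem_filter] at hℓ
    refine ⟨g • ℓ, ?_, inv_smul_smul _ _⟩
    rw [Finset.mem_filter]
    exact ⟨Lines_smul hg hℓ.1, Finset.smul_finset_subset_smul_finset_iff.2 hℓ.2⟩

theorem lineCount_mask (m : ℕ) : lineCount (ofMask m) = countLt 2925 (lineIn m) := by
  rw [lineCount, countLt_eq, Lines, Finset.filter_image, Finset.card_image_of_injOn]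
  · congr 1
    refine Finset.filter_congr fun j hj => ?_
    obtain ⟨h1, h2, h3, -⟩ := line_bounds (Finset.mem_range.1 hj)
    simp only [lineS, Finset.insert_subset_iff, Finset.singleton_subset_iff, mem_ofMask, lineIn, bt_eq,
      Bool.and_eq_true, ptAt, Nat.mod_eq_of_lt (show linePt j 0 < 1755 by omega),
      Nat.mod_eq_of_lt (show linePt j 1 < 1755 by omega), Nat.mod_eq_of_lt h3]
  · intro i hi j hj h
    rw [Finset.coe_filter, Set.mem_ofPred_eq, Finset.mem_range] at hi hj
    exact lineS_inj hi.1 hj.1 h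

end CfsgLib.Recog.RuRankThree
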