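import Cfsg.Agent.Lib.Recog.RuRankThree.VecChecks
import Cfsg.Agent.Lib.Recog.RuRankThree.Rows
import Cfsg.Agent.Lib.Recog.RuRankThree.BaseData

/-!
# The checks of the graph on the 1755 points
-/

set_option autoImplicit false
set_option maxRecDepth 100000
set_option Elab.async false

namespace CfsgLib.Recog.RuRankThree

open CfsgLib.Sporadic (forallLt countLt)

/-- All the points. -/
noncomputable def fullM : ℕ := Nat.sub (Nat.shiftLeft 1 1755) 1

/-- The neighbours of a point. -/
noncomputable def row (x : ℕ) : ℕ := rowT.field 1755 x

/-- Adjacency. -/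
noncomputable def aB (x y : ℕ) : Bool := bt (row x) y

/-- A letter with a network keeps the graph. -/
noncomputable def rowInv (k : ℕ) : Bool := forallLt 1755 fun x => imgOK [k] (row x) (row (genN k x))

theorem row_inv0 : rowInv 0 = true := by decide +kernel

theorem row_inv1 : rowInv 1 = true := by decide +kernel

theorem row_inv16 : rowInv 16 = true := by decide +kernel

theorem row_inv17 : rowInv 17 = true := by decide +kernel

theorem row_inv19 : rowInv 19 = true := by decide +kernel

theorem row_zero : Nat.beq (row 0) (Nat.lor m10 (Nat.lor m80 m640)) = true ∧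
    Nat.beq (Nat.lor 1 (Nat.lor (row 0) m1024)) fullM = true ∧ Nat.beq (Nat.land (row 0) m1024) 0 = true ∧
    forallLt 1755 (fun y => aB 0 y == aB y 0) = true ∧ aB 0 0 = false := by
  decide +kernel

/-- The generators of the stabiliser of the first point. -/
noncomputable def stabWords : List (List ℕ) := [lword 1, lword 4, lword 17]

theorem stab_fix : stabWords.all (fun w => wordOK w && w.all four.contains && Nat.beq (wordN w 0) 0) = true := by
  decide +kernel

/-- A suborbit. -/
noncomputable def subOK (n : ℕ) (O N P : ℕ → ℕ) (m : ℕ) : Bool :=
  treeOK (ptStep stabWords O) 3 n N P &&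
    Nat.beq (Nat.rec 0 (fun i acc => Nat.lor acc (Nat.shiftLeft 1 (O i))) n) m

theorem sub10_ok : subOK 10 (sub10Order.field 16) (sub10Next.field 16) (sub10Par.field 16) m10 = true := by
  decide +kernel

theorem sub80_ok : subOK 80 (sub80Order.field 16) (sub80Next.field 16) (sub80Par.field 16) m80 = true := by
  decide +kernel

theorem sub640_ok : subOK 640 (sub640Order.field 16) (sub640Next.field 16) (sub640Par.field 16) m640 = true := by
  decide +kernel

theorem sub1024_ok :
    subOK 1024 (sub1024Order.field 16) (sub1024Next.field 16) (sub1024Par.field 16) m1024 = true := by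
  decide +kernel

theorem common_reps :
    countLt 1755 (fun z => aB 0 z && aB (sub10Order.field 16 0) z) = 217 ∧
    countLt 1755 (fun z => aB 0 z && aB (sub80Order.field 16 0) z) = 345 ∧
    countLt 1755 (fun z => aB 0 z && aB (sub640Order.field 16 0) z) = 281 ∧
    countLt 1755 (aB 0) = 730 := by
  decide +kernel

/-- A base point. -/
noncomputable def bpt (i : ℕ) : ℕ := basePts.getD i 0

/-- The word of a base point and its two masks. -/
noncomputable def baseOK (i : ℕ) : Bool :=
  wordOK (baseWords.getD i []) && (baseWords.getD i []).all four.contains &&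
    Nat.beq (wordN (baseWords.getD i []) 0) (bpt i) &&
    imgOK (baseWords.getD i []) m10 (base10.getD i 0) && imgOK (baseWords.getD i []) m80 (base80.getD i 0)

theorem base_ok : forallLt basePts.length baseOK = true := by decide +kernel

/-- A mask or its complement. -/
noncomputable def side (b : Bool) (m : ℕ) : ℕ := cond b m (Nat.xor m fullM)

/-- The points looking like `u` from the base points of a list. -/
noncomputable def patMask (kn : List ℕ) (u : ℕ) : ℕ :=
  List.rec (motive := fun _ => ℕ) fullM (fun i _ ih =>
    Nat.land (side (bt (row (bpt i)) u) (row (bpt i)))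
      (Nat.land (side (bt (base10.getD i 0) u) (base10.getD i 0))
        (Nat.land (side (bt (base80.getD i 0) u) (base80.getD i 0)) ih))) kn

/-- The number of candidates at each step. -/
noncomputable def stepCount (k : ℕ) : ℕ := (baseSteps.getD k (0, 0)).2

theorem bound_steps : forallLt 19 (fun k => Nat.blt (bpt k) 1755 &&
    Nat.ble (countLt 1755 (bt (patMask (List.range k) (bpt k)))) (stepCount k)) = true ∧
    basePts.length = 37 ∧ ((List.range 19).map stepCount).prod = 35942400 := by
  decide +kernel

theorem bound_rigid : forallLt 1755 (fun u => Nat.beq (patMask (List.range 19) u) (Nat.shiftLeft 1 u)) = true := by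
  decide +kernel

/-- The place among the base points of an entry of the base of the centraliser. -/
noncomputable def centIdx : List ℕ := centBase.map fun x => basePts.idxOf x

theorem cent_steps : forallLt 18 (fun k => Nat.blt (centIdx.getD k 0) 37 && Nat.blt (centBase.getD k 0) 1755 &&
      Nat.beq (bpt (centIdx.getD k 0)) (centBase.getD k 0) &&
      (cond (Nat.blt k 13) (Nat.beq (genN 18 (centBase.getD k 0)) (centBase.getD (Nat.mod (Nat.add k 1) 13) 0))
        (Nat.beq (patMask (centIdx.take k) (centBase.getD k 0)) (Nat.shiftLeft 1 (centBase.getD k 0))))) = true ∧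
    Nat.beq (centBase.getD 0 0) 2 = true := by
  decide +kernel

theorem cent_rigid : forallLt 1755 (fun u => Nat.beq (patMask centIdx u) (Nat.shiftLeft 1 u)) = true := by
  decide +kernel

/-- The adjacency to the images under the powers of `t`. -/
noncomputable def tPattern (x : ℕ) : List Bool :=
  Nat.rec (motive := fun _ => ℕ → List Bool) (fun _ => [])
    (fun _ ih y => aB x (genN 18 y) :: ih (genN 18 y)) 6 x

theorem t_pattern : forallLt 1755 (fun x =>
    !(tPattern x == tPattern 2) || (centBase.take 13).contains x) = true := by
  decide +kernel

theorem t_word : wordOK tWord = true ∧ tWord.all (fun l => Nat.blt l 18) = true ∧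
    forallLt 1755 (fun x => Nat.beq (wordN (tWord.flatMap lword) x) (genN 18 x)) = true ∧
    genN 18 2 ≠ 2 := by
  decide +kernel

end CfsgLib.Recog.RuRankThree
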