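import Cfsg.Agent.Lib.Recog.RuRankThree.Group
import Cfsg.Agent.Lib.Recog.RuRankThree.GraphChecks

/-!
# The graph on the 1755 points, its symmetries and the centraliser of an element of order 13
-/

set_option autoImplicit false
set_option maxRecDepth 10000

namespace CfsgLib.Recog.RuRankThree

open MulAction
open scoped Pointwise
open CfsgLib.Sporadic (forallLt forallLt_elim countLt countLt_eq)

theorem testBit_fullM (i : ℕ) : fullM.testBit i = decide (i < 1755) := testBit_full i

/-- Adjacency of points. -/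
def aadj (x y : Fin 1755) : Prop := aB x.val y.val = true

noncomputable instance aadjDecidable : DecidableRel aadj := fun x y =>
  inferInstanceAs (Decidable (aB x.val y.val = true))

theorem aadj_iff {x y : Fin 1755} : aadj x y ↔ (row x.val).testBit y.val = true := by rw [aadj, aB, bt_eq]

/-- The permutations keeping adjacency. -/
def autA : Subgroup (Equiv.Perm (Fin 1755)) where
  carrier := {g | ∀ x y, aadj (g x) (g y) ↔ aadj x y}
  one_mem' x y := Iff.rfl
  mul_mem' {g h} hg hh x y := by rw [Equiv.Perm.mul_apply, Equiv.Perm.mul_apply, hg, hh]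
  inv_mem' {g} hg x y := by
    rw [← hg (g⁻¹ x) (g⁻¹ y)]
    simp

theorem genP_autA {k : ℕ} (h : rowInv k = true) (hk : k < 20) : genP k ∈ autA := by
  intro x y
  have e := img_bit (forallLt_elim h x.isLt) y
  rw [show wordP [k] = genP k from mul_one _] at e
  rw [aadj_iff, aadj_iff, genP_val hk x, e]

theorem Lgrp_le_autA : Lgrp ≤ autA := by
  refine (Subgroup.closure_le _).2 ?_
  rintro _ ⟨l, hl, rfl⟩
  simp only [four, List.mem_cons, List.not_mem_nil, or_false, Set.mem_ofPred_eq] at hl
  rcases hl with rfl | rfl | rfl | rfl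
  exacts [genP_autA row_inv0 (by norm_num), genP_autA row_inv1 (by norm_num), genP_autA row_inv16 (by norm_num),
    genP_autA row_inv17 (by norm_num)]

theorem aadj_smul {g : Equiv.Perm (Fin 1755)} (hg : g ∈ Lgrp) (x y : Fin 1755) :
    aadj (g x) (g y) ↔ aadj x y := Lgrp_le_autA hg x y

theorem aadj_zero_irrefl : ¬ aadj 0 0 := by
  simp [aadj, row_zero.2.2.2.2]

theorem aadj_irrefl (x : Fin 1755) : ¬ aadj x x := by
  obtain ⟨g, hg, rfl⟩ := exists_move x
  rw [aadj_smul hg]
  exact aadj_zero_irrefl

theorem aadj_symm {x y : Fin 1755} (h : aadj x y) : aadj y x := by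
  obtain ⟨g, hg, rfl⟩ := exists_move x
  obtain ⟨z, rfl⟩ := g.surjective y
  rw [aadj_smul hg] at h ⊢
  have := beq_iff_eq.1 (forallLt_elim row_zero.2.2.2.1 z.isLt)
  unfold aadj at h ⊢
  rwa [show ((0 : Fin 1755)).val = 0 from rfl, ← this]

/-- The number of common neighbours. -/
noncomputable def common (x y : Fin 1755) : ℕ := (Finset.univ.filter fun z : Fin 1755 => aB x.val z.val = true ∧ aB y.val z.val = true).card

theorem common_smul {g : Equiv.Perm (Fin 1755)} (hg : g ∈ autA) (x y : Fin 1755) :
    common (g x) (g y) = common x y := by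
  unfold common
  refine (Finset.card_equiv g fun z => ?_).symm
  simp only [Finset.mem_filter, Finset.mem_univ, true_and]
  exact and_congr (hg x z).symm (hg y z).symm

/-- The colour of a pair. -/
noncomputable def colr (x y : Fin 1755) : ℕ := if aadj x y then common x y else if x = y then 1 else 0

theorem colr_smul {g : Equiv.Perm (Fin 1755)} (hg : g ∈ autA) (x y : Fin 1755) :
    colr (g x) (g y) = colr x y := by
  unfold colr
  rw [common_smul hg, if_congr (hg x y) rfl (if_congr g.injective.eq_iff rfl rfl)]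

/-! ### the suborbits -/

theorem lword_four {j : ℕ} (hj : j < 18) : wordP (lword j) ∈ Lgrp := wordP_mem (lword_spec hj).2

theorem stab_mem {g : Equiv.Perm (Fin 1755)}
    (hg : g ∈ Subgroup.closure {p | p ∈ stabWords.map wordP}) : g ∈ Lgrp ∧ g 0 = 0 := by
  have hle : Subgroup.closure {p | p ∈ stabWords.map wordP} ≤
      Lgrp ⊓ stabilizer (Equiv.Perm (Fin 1755)) (0 : Fin 1755) := by
    refine (Subgroup.closure_le _).2 fun p hp => ?_
    obtain ⟨w, hw, rfl⟩ := List.mem_map.1 (show p ∈ stabWords.map wordP from hp)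
    have h := List.all_eq_true.1 stab_fix w hw
    simp only [Bool.and_eq_true, List.all_eq_true, List.contains_iff_mem, Nat.beq_eq] at h
    exact ⟨wordP_mem h.1.2, mem_stabilizer_iff.2 (Fin.ext ((wordP_val w h.1.1 0).trans h.2))⟩
  exact hle hg

theorem testBit_orFold (O : ℕ → ℕ) : ∀ n x : ℕ,
    (Nat.rec 0 (fun i acc => Nat.lor acc (Nat.shiftLeft 1 (O i))) n : ℕ).testBit x = true →
      ∃ i < n, O i = x
  | 0, x, h => by simp at h
  | n + 1, x, h => by
    generalize hR : (Nat.rec 0 (fun i acc => Nat.lor acc (Nat.shiftLeft 1 (O i))) n : ℕ) = R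
    replace h : (Nat.lor (Nat.rec 0 (fun i acc => Nat.lor acc (Nat.shiftLeft 1 (O i))) n)
      (Nat.shiftLeft 1 (O n))).testBit x = true := h
    rw [hR, show Nat.lor R (Nat.shiftLeft 1 (O n)) = R ||| 1 <<< O n from rfl, Nat.testBit_or, Nat.shiftLeft_eq,
      one_mul, Nat.testBit_two_pow, Bool.or_eq_true, decide_eq_true_eq] at h
    rcases h with h | h
    · obtain ⟨i, hi, e⟩ := testBit_orFold O n x (hR ▸ h)
      exact ⟨i, by omega, e⟩
    · exact ⟨n, by omega, h⟩

theorem sub_trans {n : ℕ} {O N P : ℕ → ℕ} {m : ℕ} (h : subOK n O N P m = true) {y : Fin 1755}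
    (hy : m.testBit y.val = true) : ∃ g ∈ Lgrp, g 0 = 0 ∧ g (ptAt (O 0)) = y := by
  simp only [subOK, Bool.and_eq_true, Nat.beq_eq] at h
  rw [← h.2] at hy
  obtain ⟨i, hi, e⟩ := testBit_orFold O n _ hy
  obtain ⟨g, hg, hge⟩ := (orbit_of_tree (α := Fin 1755) (stabWords.map wordP) n (fun i => ptAt (O i))
    (ptStep stabWords O) N P
    (fun i k j hk hi hj hs => by
      simp only [ptStep, Bool.and_eq_true, Nat.blt_eq, Nat.beq_eq] at hs
      rw [List.length_map] at hk
      rw [List.getD_eq_getElem _ _ (by rwa [List.length_map]), List.getElem_map, ← List.getD_eq_getElem _ [] hk,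
        Equiv.Perm.smul_def, wordP_ptAt hs.1.1 hs.1.2, hs.2])
    (by simp [stabWords]) (by rw [List.length_map]; exact h.1)).1 i hi
  obtain ⟨h1, h2⟩ := stab_mem hg
  exact ⟨g, h1, h2, by rw [e, ptAt_val] at hge; exact hge⟩

theorem common_zero (y : ℕ) (hy : y < 1755) :
    common 0 (ptAt y) = countLt 1755 (fun z => aB 0 z && aB y z) := by
  rw [countLt_eq, common]
  refine Finset.card_bij (fun z _ => z.val) ?_ ?_ ?_
  · intro z hz
    rw [Finset.mem_filter] at hz
    rw [Finset.mem_filter, Finset.mem_range, Bool.and_eq_true]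
    have e : (ptAt y).val = y := Nat.mod_eq_of_lt hy
    exact ⟨z.isLt, hz.2.1, e ▸ hz.2.2⟩
  · intro z _ w _ h
    exact Fin.ext h
  · intro z hz
    rw [Finset.mem_filter, Finset.mem_range, Bool.and_eq_true] at hz
    have e : (ptAt y).val = y := Nat.mod_eq_of_lt hy
    exact ⟨⟨z, hz.1⟩, by rw [Finset.mem_filter]; exact ⟨Finset.mem_univ _, hz.2.1, by rw [e]; exact hz.2.2⟩, rfl⟩

theorem row_zero_bit (i : ℕ) :
    (row 0).testBit i = (m10.testBit i || (m80.testBit i || m640.testBit i)) := by
  rw [Nat.eq_of_beq_eq_true row_zero.1]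
  show (m10 ||| (m80 ||| m640)).testBit i = _
  rw [Nat.testBit_or, Nat.testBit_or]

theorem sub_first {n : ℕ} {O N P : ℕ → ℕ} {m : ℕ} (h : subOK n O N P m = true) (hn : 0 < n) : O 0 < 1755 := by
  simp only [subOK, Bool.and_eq_true, treeOK] at h
  have := forallLt_elim (forallLt_elim h.1.1 hn) (show 0 < 3 by norm_num)
  simp only [ptStep, Bool.and_eq_true, Nat.blt_eq] at this
  exact this.2.1.2

theorem common_sub {n : ℕ} {O N P : ℕ → ℕ} {m c : ℕ} (h : subOK n O N P m = true) (hn : 0 < n)
    (hc : countLt 1755 (fun z => aB 0 z && aB (O 0) z) = c) {y : Fin 1755} (hy : m.testBit y.val = true) :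
    common 0 y = c := by
  obtain ⟨g, hg, hg0, hgy⟩ := sub_trans h hy
  rw [← hgy]
  conv_lhs => rw [← hg0]
  rw [common_smul (Lgrp_le_autA hg), common_zero _ (sub_first h hn), hc]

theorem colr_zero (y : Fin 1755) :
    (colr 0 y = 217 ↔ m10.testBit y.val = true) ∧ (colr 0 y = 345 ↔ m80.testBit y.val = true) ∧
      (aadj 0 y → colr 0 y ∈ ({217, 345, 281} : Finset ℕ)) := by
  have h10 := common_sub sub10_ok (by norm_num) common_reps.1 (y := y)
  have h80 := common_sub sub80_ok (by norm_num) common_reps.2.1 (y := y)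
  have h640 := common_sub sub640_ok (by norm_num) common_reps.2.2.1 (y := y)
  have hrow : aadj 0 y ↔ (m10.testBit y.val = true ∨ m80.testBit y.val = true ∨ m640.testBit y.val = true) := by
    rw [aadj_iff, show ((0 : Fin 1755)).val = 0 from rfl, row_zero_bit, Bool.or_eq_true, Bool.or_eq_true]
  unfold colr
  by_cases ha : aadj 0 y
  · rw [if_pos ha]
    rcases hrow.1 ha with h | h | h
    · have e := h10 h
      refine ⟨iff_of_true e h, iff_of_false (by omega) fun h' => by have := h80 h'; omega, fun _ => by simp [e]⟩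
    · have e := h80 h
      refine ⟨iff_of_false (by omega) fun h' => by have := h10 h'; omega, iff_of_true e h, fun _ => by simp [e]⟩
    · have e := h640 h
      exact ⟨iff_of_false (by omega) fun h' => by have := h10 h'; omega,
        iff_of_false (by omega) fun h' => by have := h80 h'; omega, fun _ => by simp [e]⟩
  · rw [if_neg ha]
    have hne : ∀ c : ℕ, 1 < c → (if (0 : Fin 1755) = y then 1 else 0) ≠ c := fun c hc h => by
      split_ifs at h <;> omega
    exact ⟨iff_of_false (hne _ (by norm_num)) fun h => ha (hrow.2 (Or.inl h)),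
      iff_of_false (hne _ (by norm_num)) fun h => ha (hrow.2 (Or.inr (Or.inl h))), fun h => absurd h ha⟩

/-! ### patterns from the base points -/

theorem base_bits {i : ℕ} (hi : i < basePts.length) (y : Fin 1755) :
    bpt i < 1755 ∧ (colr (ptAt (bpt i)) y = 217 ↔ (base10.getD i 0).testBit y.val = true) ∧
      (colr (ptAt (bpt i)) y = 345 ↔ (base80.getD i 0).testBit y.val = true) := by
  have h := forallLt_elim base_ok hi
  simp only [baseOK, Bool.and_eq_true, List.all_eq_true, List.contains_iff_mem, Nat.beq_eq] at h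
  obtain ⟨⟨⟨⟨hw, hfour⟩, hb⟩, h10⟩, h80⟩ := h
  set g := wordP (baseWords.getD i []) with hg
  have hgL : g ∈ Lgrp := wordP_mem hfour
  have hg0 : g 0 = ptAt (bpt i) := by
    have h0 := wordP_val _ hw (0 : Fin 1755)
    rw [show ((0 : Fin 1755)).val = 0 from rfl, hb] at h0
    rw [← h0, ptAt_val]
  have hlt : bpt i < 1755 := by
    have h0 := wordP_val _ hw (0 : Fin 1755)
    rw [show ((0 : Fin 1755)).val = 0 from rfl, hb] at h0
    rw [← h0]; exact Fin.isLt _
  refine ⟨hlt, ?_, ?_⟩
  · rw [← hg0, ← g.apply_symm_apply y, colr_smul (Lgrp_le_autA hgL), img_bit h10]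
    exact (colr_zero _).1
  · rw [← hg0, ← g.apply_symm_apply y, colr_smul (Lgrp_le_autA hgL), img_bit h80]
    exact (colr_zero _).2.1

theorem testBit_side {b : Bool} {m i : ℕ} (hi : i < 1755) (h : m.testBit i = b) :
    (side b m).testBit i = true := by
  cases b
  · show (m ^^^ fullM).testBit i = true
    rw [Nat.testBit_xor, h, testBit_fullM, decide_eq_true hi]; rfl
  · exact h

/-- A symmetry fixing some base points keeps the pattern. -/
theorem patMask_bit {g : Equiv.Perm (Fin 1755)} (hg : g ∈ autA) (u : Fin 1755) : ∀ kn : List ℕ,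
    (∀ i ∈ kn, i < basePts.length ∧ g (ptAt (bpt i)) = ptAt (bpt i)) → (patMask kn u.val).testBit (g u).val = true
  | [], _ => by
    show fullM.testBit _ = true
    rw [testBit_fullM]; exact decide_eq_true (g u).isLt
  | i :: kn, h => by
    obtain ⟨hi, hfix⟩ := h i List.mem_cons_self
    obtain ⟨hb, h10, h80⟩ := base_bits hi (g u)
    obtain ⟨-, h10', h80'⟩ := base_bits hi u
    have hc : colr (ptAt (bpt i)) (g u) = colr (ptAt (bpt i)) u := by
      conv_lhs => rw [← hfix]
      exact colr_smul hg _ _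
    rw [hc] at h10 h80
    have ha : aadj (ptAt (bpt i)) (g u) ↔ aadj (ptAt (bpt i)) u := by
      conv_lhs => rw [← hfix]
      exact hg _ _
    rw [aadj_iff, aadj_iff, show (ptAt (bpt i)).val = bpt i from Nat.mod_eq_of_lt hb] at ha
    show (Nat.land _ (Nat.land _ (Nat.land _ (patMask kn u.val)))).testBit _ = true
    show (_ &&& (_ &&& (_ &&& patMask kn u.val))).testBit _ = true
    rw [Nat.testBit_and, Nat.testBit_and, Nat.testBit_and,
      testBit_side (g u).isLt ((Bool.eq_iff_iff.2 ha).trans (bt_eq _ _).symm),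
      testBit_side (g u).isLt ((Bool.eq_iff_iff.2 (h10.symm.trans h10')).trans (bt_eq _ _).symm),
      testBit_side (g u).isLt ((Bool.eq_iff_iff.2 (h80.symm.trans h80')).trans (bt_eq _ _).symm),
      patMask_bit hg u kn fun j hj => h j (List.mem_cons_of_mem _ hj)]
    rfl

theorem eq_one_of_pattern {g : Equiv.Perm (Fin 1755)} (hg : g ∈ autA) (kn : List ℕ)
    (hkn : ∀ i ∈ kn, i < basePts.length ∧ g (ptAt (bpt i)) = ptAt (bpt i))
    (h : forallLt 1755 (fun u => Nat.beq (patMask kn u) (Nat.shiftLeft 1 u)) = true) : g = 1 := by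
  refine Equiv.ext fun u => ?_
  have e := Nat.eq_of_beq_eq_true (forallLt_elim h u.isLt)
  have hb := patMask_bit hg u kn hkn
  rw [e, show Nat.shiftLeft 1 u.val = 1 <<< u.val from rfl, Nat.shiftLeft_eq, one_mul, Nat.testBit_two_pow,
    decide_eq_true_eq] at hb
  exact Fin.ext hb.symm

/-- The symmetries fixing the first few base points. -/
def baseFix (k : ℕ) : Subgroup ↥autA where
  carrier := {g | ∀ i < k, (g : Equiv.Perm (Fin 1755)) (ptAt (bpt i)) = ptAt (bpt i)}
  one_mem' i _ := rfl
  mul_mem' {g h} hg hh i hi := by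
    rw [Subgroup.coe_mul, Equiv.Perm.mul_apply, hh i hi, hg i hi]
  inv_mem' {g} hg i hi := by
    rw [Subgroup.coe_inv, Equiv.Perm.inv_eq_iff_eq, hg i hi]

theorem baseFix_step {k : ℕ} (hk : k < 19) :
    Nat.card ↥(baseFix k) ≤ stepCount k * Nat.card ↥(baseFix (k + 1)) := by
  classical
  have hb := forallLt_elim bound_steps.1 hk
  simp only [Bool.and_eq_true, Nat.blt_eq, Nat.ble_eq] at hb
  let u := ptAt (bpt k)
  have hu : u.val = bpt k := Nat.mod_eq_of_lt hb.1
  rw [← (stabilizer ↥(baseFix k) u).card_mul_index, index_stabilizer, mul_comm]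
  refine Nat.mul_le_mul ?_ ?_
  · refine le_trans ?_ hb.2
    rw [countLt_eq, ← Set.ncard_coe_finset, ← Set.ncard_image_of_injective (orbit ↥(baseFix k) u) Fin.val_injective]
    refine Set.ncard_le_ncard ?_ (Finset.finite_toSet _)
    rintro _ ⟨_, ⟨g, rfl⟩, rfl⟩
    show ((g.1 : Equiv.Perm (Fin 1755)) u).val ∈ _
    rw [Finset.mem_coe, Finset.mem_filter, Finset.mem_range]
    refine ⟨Fin.isLt _, ?_⟩
    rw [bt_eq, ← hu]
    refine patMask_bit g.1.2 u _ fun i hi => ?_
    have hik : i < k := List.mem_range.1 hi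
    exact ⟨by rw [bound_steps.2.1]; omega, g.2 i hik⟩
  · refine Nat.card_le_card_of_injective (fun g => ⟨g.1.1, fun i hi => ?_⟩) fun g h e =>
      Subtype.ext (Subtype.ext (congrArg (fun z : ↥(baseFix (k + 1)) => z.1) e))
    rcases Nat.lt_succ_iff_lt_or_eq.1 hi with hi | rfl
    · exact g.1.2 i hi
    · exact g.2

theorem card_autA_le : Nat.card ↥autA ≤ 35942400 := by
  have key : ∀ j, j ≤ 19 →
      Nat.card ↥autA ≤ ((List.range j).map stepCount).prod * Nat.card ↥(baseFix j) := by
    intro j
    induction j with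
    | zero =>
      intro _
      have e : baseFix 0 = ⊤ := eq_top_iff.2 fun g _ i hi => absurd hi (by omega)
      rw [List.range_zero, List.map_nil, List.prod_nil, one_mul, e, Subgroup.card_top]
    | succ j ih =>
      intro hj
      rw [List.range_succ, List.map_append, List.prod_append, List.map_singleton, List.prod_singleton, mul_assoc]
      exact (ih (by omega)).trans (Nat.mul_le_mul_left _ (baseFix_step (by omega)))
  have h := key 19 le_rfl
  have e : baseFix 19 = ⊥ := eq_bot_iff.2 fun g hg => Subgroup.mem_bot.2 (Subtype.ext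
    (eq_one_of_pattern g.2 (List.range 19) (fun i hi =>
      ⟨by rw [bound_steps.2.1]; have := List.mem_range.1 hi; omega, hg i (List.mem_range.1 hi)⟩) bound_rigid))
  rwa [bound_steps.2.2, e, Subgroup.card_bot, mul_one] at h

/-- Every symmetry of the graph lies in the group. -/
theorem autA_eq : autA = Lgrp :=
  (Subgroup.eq_of_le_of_card_ge Lgrp_le_autA (by rw [card_Lgrp]; exact card_autA_le)).symm

/-! ### the element of order thirteen -/

theorem tgen_mem : genP 18 ∈ Lgrp := by
  have hw : wordOK (tWord.flatMap lword) = true ∧ ∀ l ∈ tWord.flatMap lword, l ∈ four := by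
    have h : ∀ l ∈ tWord.flatMap lword, l ∈ four := by
      intro l hl
      obtain ⟨j, hj, hl⟩ := List.mem_flatMap.1 hl
      have := List.all_eq_true.1 t_word.2.1 j hj
      exact (lword_spec (Nat.blt_eq.mp this)).2 l hl
    exact ⟨wordOK_four h, h⟩
  have e : genP 18 = wordP (tWord.flatMap lword) := Equiv.ext fun x => Fin.ext (by
    rw [genP_val (by norm_num), wordP_val _ hw.1]
    exact (Nat.eq_of_beq_eq_true (forallLt_elim t_word.2.2.1 x.isLt)).symm)
  rw [e]; exact wordP_mem hw.2

theorem ngen_mem : genP 19 ∈ Lgrp := autA_eq ▸ genP_autA row_inv19 (by norm_num)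

theorem cent_entry {k : ℕ} (hk : k < 18) : centIdx.getD k 0 < basePts.length ∧ centBase.getD k 0 < 1755 ∧
    bpt (centIdx.getD k 0) = centBase.getD k 0 := by
  have h := forallLt_elim cent_steps.1 hk
  simp only [Bool.and_eq_true, Nat.blt_eq, Nat.beq_eq] at h
  exact ⟨by rw [bound_steps.2.1]; exact h.1.1.1, h.1.1.2, h.1.2⟩

theorem centIdx_length : centIdx.length = 18 ∧ centBase.length = 18 := by decide +kernel

theorem tpow_base : ∀ k, k < 13 → (genP 18 ^ k) (ptAt 2) = ptAt (centBase.getD k 0)
  | 0, _ => by rw [pow_zero, Nat.eq_of_beq_eq_true cent_steps.2]; rfl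
  | k + 1, hk => by
    rw [pow_succ', Equiv.Perm.mul_apply, tpow_base k (by omega)]
    have h := forallLt_elim cent_steps.1 (show k < 18 by omega)
    simp only [Bool.and_eq_true, Nat.blt_eq, show Nat.blt k 13 = true from Nat.blt_eq.mpr (by omega),
      cond_true, Nat.beq_eq] at h
    refine Fin.ext ?_
    rw [genP_val (by norm_num)]
    show genN 18 (centBase.getD k 0 % 1755) = centBase.getD (k + 1) 0 % 1755
    rw [Nat.mod_eq_of_lt h.1.1.2, h.2, show Nat.mod (Nat.add k 1) 13 = k + 1 from Nat.mod_eq_of_lt (by omega),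
      Nat.mod_eq_of_lt (cent_entry (show k + 1 < 18 by omega)).2.1]

theorem iterate_comm {g : Equiv.Perm (Fin 1755)} (hc : g * genP 18 = genP 18 * g) (x : Fin 1755) :
    g (genP 18 x) = genP 18 (g x) := by
  rw [← Equiv.Perm.mul_apply, hc]; rfl

theorem tPattern_smul {g : Equiv.Perm (Fin 1755)} (hg : g ∈ autA) (hc : g * genP 18 = genP 18 * g)
    (x : Fin 1755) : tPattern (g x).val = tPattern x.val := by
  have key : ∀ (n : ℕ) (y : Fin 1755),
      (Nat.rec (motive := fun _ => ℕ → List Bool) (fun _ => [])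
        (fun _ ih z => aB (g x).val (genN 18 z) :: ih (genN 18 z)) n) (g y).val =
      (Nat.rec (motive := fun _ => ℕ → List Bool) (fun _ => [])
        (fun _ ih z => aB x.val (genN 18 z) :: ih (genN 18 z)) n) y.val := by
    intro n
    induction n with
    | zero => intro y; rfl
    | succ n ih =>
      intro y
      show aB (g x).val (genN 18 (g y).val) :: _ = aB x.val (genN 18 y.val) :: _
      rw [← genP_val (by norm_num) (g y), ← genP_val (by norm_num) y, ← iterate_comm hc y, ih (genP 18 y),
        Bool.eq_iff_iff.2 (hg x (genP 18 y))]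
  exact key 6 x

/-- Only powers of the element commute with it. -/
theorem cent_t {g : Equiv.Perm (Fin 1755)} (hg : g ∈ autA) (hc : g * genP 18 = genP 18 * g) :
    ∃ k < 13, g = genP 18 ^ k := by
  have hx := forallLt_elim t_pattern (g (ptAt 2)).isLt
  simp only [tPattern_smul hg hc, show (ptAt 2).val = 2 from rfl, beq_self_eq_true, Bool.not_true, Bool.false_or,
    List.contains_iff_mem] at hx
  obtain ⟨k, hk, hkx⟩ := List.getElem_of_mem hx
  have hk13 : k < 13 := by rw [List.length_take] at hk; omega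
  refine ⟨k, hk13, ?_⟩
  set h := (genP 18 ^ k)⁻¹ * g with hh
  have hcomm : Commute g (genP 18) := hc
  have hhA : h ∈ autA := mul_mem (inv_mem (pow_mem (Lgrp_le_autA tgen_mem) k)) hg
  have hhc : Commute h (genP 18) := ((Commute.refl _).pow_left k).inv_left.mul_left hcomm
  have hh2 : h (ptAt 2) = ptAt 2 := by
    rw [hh, Equiv.Perm.mul_apply, Equiv.Perm.inv_eq_iff_eq, tpow_base k hk13]
    rw [List.getElem_take] at hkx
    rw [List.getD_eq_getElem _ _ (by rw [centIdx_length.2]; omega), hkx, ptAt_val]
  have hfix : ∀ j, j ≤ 18 → ∀ i ∈ centIdx.take j, i < basePts.length ∧ h (ptAt (bpt i)) = ptAt (bpt i) := by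
    intro j
    induction j with
    | zero => intro _ i hi; simp at hi
    | succ j ih =>
      intro hj i hi
      rw [List.take_add_one, List.mem_append] at hi
      rcases hi with hi | hi
      · exact ih (by omega) i hi
      · rw [List.getElem?_eq_getElem (by rw [centIdx_length.1]; omega)] at hi
        simp only [Option.toList_some, List.mem_singleton] at hi
        subst hi
        obtain ⟨h1, h2, h3⟩ := cent_entry (show j < 18 by omega)
        rw [List.getD_eq_getElem _ _ (by rw [centIdx_length.1]; omega)] at h1 h3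
        refine ⟨h1, ?_⟩
        rw [h3]
        rcases Nat.lt_or_ge j 13 with hj13 | hj13
        · rw [← tpow_base j hj13, ← Equiv.Perm.mul_apply, (hhc.pow_right j).eq, Equiv.Perm.mul_apply, hh2]
        · have hs := forallLt_elim cent_steps.1 (show j < 18 by omega)
          simp only [Bool.and_eq_true, show Nat.blt j 13 = false from Bool.eq_false_iff.2
            (fun e => by have := Nat.blt_eq.mp e; omega), cond_false, Nat.beq_eq] at hs
          have hb := patMask_bit hhA (ptAt (centBase.getD j 0)) (centIdx.take j) (ih (by omega))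
          rw [show (ptAt (centBase.getD j 0)).val = centBase.getD j 0 from Nat.mod_eq_of_lt h2, hs.2,
            show Nat.shiftLeft 1 (centBase.getD j 0) = 1 <<< centBase.getD j 0 from rfl, Nat.shiftLeft_eq, one_mul,
            Nat.testBit_two_pow, decide_eq_true_eq] at hb
          refine Fin.ext ?_
          rw [← hb]
          exact (Nat.mod_eq_of_lt h2).symm
  have h1 : h = 1 := eq_one_of_pattern hhA centIdx
    (fun i hi => hfix 18 le_rfl i (by rw [List.take_of_length_le (by rw [centIdx_length.1])]; exact hi)) cent_rigid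
  rw [hh, inv_mul_eq_one] at h1
  exact h1.symm

end CfsgLib.Recog.RuRankThree
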