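import Cfsg.Agent.Lib.Lie.Twisted.Tits.Checks
import Cfsg.Agent.Lib.Recog.RuRankThree.Basic
import Cfsg.Agent.Lib.Recog.RuRankThree.Vecs
import Cfsg.Agent.Lib.Recog.RuRankThree.Trees

/-!
# The checks on the vectors of the points
-/

set_option autoImplicit false
set_option maxRecDepth 100000
set_option Elab.async false

namespace CfsgLib.Recog.RuRankThree

open CfsgLib.Sporadic (forallLt)
open CfsgLib.Lie.Tits (tabF4 letW eqW)

/-- The vector of a point. -/
noncomputable def vec (i : ℕ) : ℕ := vecT.field 52 i

/-- The four generating letters. -/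
def four : List ℕ := [0, 1, 16, 17]

/-- A word in the four letters for each letter. -/
noncomputable def lword (j : ℕ) : List ℕ := letterWords.getD j []

/-- The image of a vector under a root element. -/
noncomputable def step1 (L : List (ℕ × ℕ)) (v : ℕ) : ℕ :=
  List.rec (motive := fun _ => ℕ → ℕ) (fun acc => acc)
    (fun e _ ih acc => ih (cond (bt v e.2) (Nat.xor acc (Nat.shiftLeft 1 e.1)) acc)) L v

/-- The image of a vector under a word of root elements. -/
noncomputable def run1 (w : List ℕ) (v : ℕ) : ℕ :=
  List.rec (motive := fun _ => ℕ → ℕ) (fun v => v) (fun r _ ih v => step1 (tabF4.getD r []) (ih v)) w v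

theorem step1_eq (L : List (ℕ × ℕ)) (M : ℕ) : step1 L M = CfsgLib.Lie.TitsEval.stepP 1 L M := by
  suffices h : ∀ acc : ℕ, List.rec (motive := fun _ => ℕ → ℕ) (fun acc => acc)
      (fun e _ ih acc => ih (cond (bt M e.2) (Nat.xor acc (Nat.shiftLeft 1 e.1)) acc)) L acc =
      L.foldl (fun acc e => acc ^^^ (((M >>> (1 * e.2)) &&& (2 ^ 1 - 1)) <<< (1 * e.1))) acc by
    exact h M
  induction L with
  | nil => intro acc; rfl
  | cons e L ih =>
    intro acc
    rw [List.foldl_cons]
    show List.rec (motive := fun _ => ℕ → ℕ) _ _ L _ = _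
    rw [ih]
    congr 1
    rw [one_mul, one_mul, show (2 : ℕ) ^ 1 - 1 = 1 from rfl, bt_eq, Nat.and_one_is_mod,
      Nat.testBit_eq_decide_div_mod_eq, Nat.shiftRight_eq_div_pow]
    rcases Nat.mod_two_eq_zero_or_one (M / 2 ^ e.2) with h | h <;> rw [h]
    · simp
    · rfl

theorem run1_eq : ∀ (w : List ℕ) (M : ℕ), run1 w M = CfsgLib.Lie.TitsEval.runP 1 tabF4 w M
  | [], M => rfl
  | r :: w, M => by
    show step1 (tabF4.getD r []) (run1 w M) = _
    rw [step1_eq, run1_eq w M]
    rfl

/-- The roots of a letter. -/
noncomputable def rootsOf (l : ℕ) : List ℕ := letW.getD l []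

/-- A letter moves the vectors as the points, on a range of points. -/
noncomputable def vecOK (l o n : ℕ) : Bool :=
  forallLt n fun i => Nat.beq (run1 (rootsOf l) (vec (Nat.add o i))) (vec (genN l (Nat.add o i)))

theorem vec_step0 : vecOK 0 0 1755 = true := by decide +kernel

theorem vec_step1 : vecOK 1 0 1755 = true := by decide +kernel

theorem vec_step16 : vecOK 16 0 1755 = true := by decide +kernel

theorem vec_step17 : vecOK 17 0 1755 = true := by decide +kernel

theorem vec_sorted : forallLt 1755 (fun i => Nat.blt (vec i) (2 ^ 52) && Nat.blt (vecSrt.field 16 i) 1755 &&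
    (Nat.beq (Nat.add i 1) 1755 || Nat.blt (vec (vecSrt.field 16 i)) (vec (vecSrt.field 16 (Nat.add i 1))))) = true := by
  decide +kernel

theorem lword_ok : forallLt 18 (fun j => eqW [j] (lword j) && (lword j).all four.contains) = true := by
  decide +kernel

theorem lword_fix : forallLt 16 (fun j => Nat.beq (wordN (lword j) 0) 0) = true := by decide +kernel

/-- A step between points in an order table. -/
noncomputable def ptStep (ws : List (List ℕ)) (O : ℕ → ℕ) (i k j : ℕ) : Bool :=
  wordOK (ws.getD k []) && Nat.blt (O i) 1755 && Nat.beq (wordN (ws.getD k []) (O i)) (O j)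

/-- The one-letter words. -/
def fourWords : List (List ℕ) := [[0], [1], [16], [17]]

theorem pt_tree : treeOK (ptStep fourWords (ptOrder.field 16)) 4 1755 (ptNext.field 16) (ptPar.field 16) = true := by
  decide +kernel

theorem pt_order : Nat.beq (ptOrder.field 16 0) 0 = true ∧
    forallLt 1755 (fun i => Nat.blt (ptOrder.field 16 i) 1755 && Nat.blt (ptPos.field 16 i) 1755 &&
      Nat.beq (ptOrder.field 16 (ptPos.field 16 i)) i) = true := by
  decide +kernel

end CfsgLib.Recog.RuRankThree
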