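import Cfsg.Agent.Lib.Lie.Twisted.Tits.Inst
import Cfsg.Agent.Lib.Recog.RuRankThree.VecChecks

/-!
# The twisted group of type F4 over two elements as a group of permutations of 1755 points
-/

set_option autoImplicit false

namespace CfsgLib.Recog.RuRankThree

open MulAction
open Cfsg.Lie
open CfsgLib.Sporadic (forallLt_elim)
open CfsgLib.Lie.Chev CfsgLib.Lie.TitsEval CfsgLib.Lie.Chev.TwGroups
open CfsgLib.Lie.Tits

attribute [local irreducible] chevF4 ChevalleyDatum.group

theorem lword_spec {j : ℕ} (hj : j < 18) :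
    eqW [j] (lword j) = true ∧ ∀ l ∈ lword j, l ∈ four := by
  have h := forallLt_elim lword_ok hj
  simp only [Bool.and_eq_true, List.all_eq_true, List.contains_iff_mem] at h
  exact h

theorem four_lt {l : ℕ} (h : l ∈ four) : l < 20 := by
  simp only [four, List.mem_cons, List.not_mem_nil, or_false] at h; omega

theorem wordOK_four {w : List ℕ} (h : ∀ l ∈ w, l ∈ four) : wordOK w = true := by
  simp only [wordOK, List.all_eq_true, Nat.blt_eq]
  exact fun l hl => four_lt (h l hl)

/-- The group of the points. -/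
noncomputable def Lgrp : Subgroup (Equiv.Perm (Fin 1755)) := Subgroup.closure (genP '' {l | l ∈ four})

theorem wordP_mem {w : List ℕ} (h : ∀ l ∈ w, l ∈ four) : wordP w ∈ Lgrp := by
  induction w with
  | nil => exact one_mem _
  | cons k w ih =>
    exact mul_mem (Subgroup.subset_closure ⟨k, h k List.mem_cons_self, rfl⟩)
      (ih fun l hl => h l (List.mem_cons_of_mem _ hl))

/-- The matrix of a group element. -/
noncomputable def mat (g : G0) : Matrix chevF4.Idx chevF4.Idx (ZMod 2) :=
  ((g : GL chevF4.Idx (ZMod 2)) : Matrix chevF4.Idx chevF4.Idx (ZMod 2))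

theorem mat_mul (g h : G0) : mat (g * h) = mat g * mat h := rfl

theorem mat_one : mat (1 : G0) = 1 := rfl

/-- The column of a point. -/
noncomputable def col (i : Fin 1755) : Matrix chevF4.Idx (Fin 1) (ZMod 2) := matP chevF4 1 (vec i.val)

theorem vec_facts (i : Fin 1755) : vec i.val < 2 ^ 52 := by
  have h := forallLt_elim vec_sorted i.isLt
  simp only [Bool.and_eq_true, Nat.blt_eq] at h
  exact h.1.1

theorem vec_inj {i j : Fin 1755} (h : vec i.val = vec j.val) : i = j := by
  have key : ∀ k : Fin 1755, vecSrt.field 16 k.val < 1755 := fun k => by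
    have h := forallLt_elim vec_sorted k.isLt
    simp only [Bool.and_eq_true, Nat.blt_eq] at h
    exact h.1.2
  let σ : Fin 1755 → Fin 1755 := fun k => ⟨_, key k⟩
  have hstep : ∀ k, k + 1 < 1755 → vec (vecSrt.field 16 k) < vec (vecSrt.field 16 (k + 1)) := fun k hk => by
    have h := forallLt_elim vec_sorted (show k < 1755 by omega)
    simp only [Bool.and_eq_true, Bool.or_eq_true, Nat.blt_eq, Nat.beq_eq] at h
    exact h.2.resolve_left (show ¬ k + 1 = 1755 by omega)
  have hσ : StrictMono fun k : Fin 1755 => vec (σ k).val := by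
    intro a b hab
    have key : ∀ d k, k + d + 1 < 1755 → vec (vecSrt.field 16 k) < vec (vecSrt.field 16 (k + d + 1)) := by
      intro d
      induction d with
      | zero => exact hstep
      | succ d ih => intro k hk; exact (ih k (by omega)).trans (hstep (k + d + 1) hk)
    have hab' : a.val < b.val := hab
    have := key (b.val - a.val - 1) a.val (by omega)
    rwa [show a.val + (b.val - a.val - 1) + 1 = b.val by omega] at this
  have hsurj : Function.Surjective σ :=
    Finite.surjective_of_injective fun a b e => hσ.injective (by simp only [e])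
  obtain ⟨a, rfl⟩ := hsurj i
  obtain ⟨b, rfl⟩ := hsurj j
  rw [hσ.injective h]

theorem col_inj {i j : Fin 1755} (h : col i = col j) : i = j := by
  refine vec_inj (Nat.eq_of_testBit_eq fun p => ?_)
  rcases Nat.lt_or_ge p 52 with hp | hp
  · obtain ⟨a, ha⟩ := exists_code chevF4 (show p < chevF4.rank + chevF4.nroots by
      rw [nroots_eq.1, nroots_eq.2.1]; omega)
    have h1 := b2z_inj _ _ (congrFun (congrFun h a) 0)
    simpa [ha] using h1
  · rw [Nat.testBit_lt_two_pow (lt_of_lt_of_le (vec_facts i) (Nat.pow_le_pow_right (by norm_num) hp)),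
      Nat.testBit_lt_two_pow (lt_of_lt_of_le (vec_facts j) (Nat.pow_le_pow_right (by norm_num) hp))]

theorem mat_letter {l : ℕ} (hl : l ∈ four) (i : Fin 1755) :
    mat (model0.L l).1 * col i = col (genP l i) := by
  have h : vecOK l 0 1755 = true := by
    simp only [four, List.mem_cons, List.not_mem_nil, or_false] at hl
    rcases hl with rfl | rfl | rfl | rfl
    exacts [vec_step0, vec_step1, vec_step16, vec_step17]
  have e := Nat.eq_of_beq_eq_true (forallLt_elim h i.isLt)
  rw [run1_eq, show Nat.add 0 i.val = i.val from Nat.zero_add _] at e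
  have hL : (model0.L l).1 = wg (letW.getD l []) := rfl
  rw [mat, hL, wg, wordG_val, col, run_spec tab_ok one_pos _ ?_ _, col, genP_val (four_lt hl), ← e]
  · rfl
  · intro r hr
    exact flat_lt [l] r (by simpa [flat] using hr)

theorem mat_word : ∀ w : List ℕ, (∀ l ∈ w, l ∈ four) → ∀ i, mat (model0.ev w).1 * col i = col (wordP w i)
  | [], _, i => by
    show mat (1 : G0) * col i = _
    rw [mat_one, Matrix.one_mul]; rfl
  | k :: w, h, i => by
    rw [model0.ev_cons, Prod.fst_mul, mat_mul, Matrix.mul_assoc,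
      mat_word w (fun l hl => h l (List.mem_cons_of_mem _ hl)) i, model0.ev_one, mat_letter (h k List.mem_cons_self)]
    rfl

/-- The elements that move the columns as some element of the group of the points. -/
noncomputable def matched : Subgroup (G0 × Multiplicative (ZMod 2)) where
  carrier := {g | ∃ σ ∈ Lgrp, ∀ i, mat g.1 * col i = col (σ i)}
  one_mem' := ⟨1, one_mem _, fun i => by rw [Prod.fst_one, mat_one, Matrix.one_mul]; rfl⟩
  mul_mem' := by
    rintro g h ⟨σ, hσ, e⟩ ⟨τ, hτ, f⟩
    exact ⟨σ * τ, mul_mem hσ hτ, fun i => by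
      rw [Prod.fst_mul, mat_mul, Matrix.mul_assoc, f, e]; rfl⟩
  inv_mem' := by
    rintro g ⟨σ, hσ, e⟩
    refine ⟨σ⁻¹, inv_mem hσ, fun i => ?_⟩
    have := e (σ⁻¹ i)
    rw [← Equiv.Perm.mul_apply, mul_inv_cancel, Equiv.Perm.one_apply] at this
    rw [← this, ← Matrix.mul_assoc, ← mat_mul, Prod.fst_inv, inv_mul_cancel, mat_one, Matrix.one_mul]

theorem letter_eq {j : ℕ} (hj : j < 18) : model0.L j = model0.ev (lword j) := by
  rw [← model0.ev_one]; exact model0.ev_eq (lword_spec hj).1

theorem gam_matched : split0.Gam ≤ matched := by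
  refine model0.clos_le fun j hj => ?_
  have hj' : j < 18 := List.mem_range.1 hj
  rw [model0.ev_eq (lword_spec hj').1]
  exact ⟨_, wordP_mem (lword_spec hj').2, mat_word _ (lword_spec hj').2⟩

theorem exists_rho (g : split0.Gp) :
    ∃ σ : Equiv.Perm (Fin 1755), σ ∈ Lgrp ∧ ∀ i, mat (g : G0 × Multiplicative (ZMod 2)).1 * col i = col (σ i) := by
  obtain ⟨σ, h1, h2⟩ := gam_matched g.2
  exact ⟨σ, h1, h2⟩

/-- The action. -/
noncomputable def rho : split0.Gp →* Equiv.Perm (Fin 1755) where
  toFun g := (exists_rho g).choose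
  map_one' := Equiv.ext fun i => col_inj (by
    rw [← (exists_rho 1).choose_spec.2 i, Subgroup.coe_one, Prod.fst_one, mat_one, Matrix.one_mul]; rfl)
  map_mul' g h := Equiv.ext fun i => col_inj (by
    rw [← (exists_rho (g * h)).choose_spec.2 i, Subgroup.coe_mul, Prod.fst_mul, mat_mul, Matrix.mul_assoc,
      (exists_rho h).choose_spec.2 i, (exists_rho g).choose_spec.2]
    rfl)

theorem rho_mem (g : split0.Gp) : rho g ∈ Lgrp := (exists_rho g).choose_spec.1

theorem rho_word {w : List ℕ} (h : ∀ l ∈ w, l ∈ four) (g : split0.Gp)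
    (hg : (g : G0 × Multiplicative (ZMod 2)) = model0.ev w) : rho g = wordP w :=
  Equiv.ext fun i => col_inj (by
    show col ((exists_rho g).choose i) = _
    rw [← (exists_rho g).choose_spec.2 i, hg, mat_word w h])

theorem rho_letter {j : ℕ} (hj : j < 18) : rho (split0.mG.L j) = wordP (lword j) :=
  rho_word (lword_spec hj).2 _ (letter_eq hj)

theorem rho_range : rho.range = Lgrp := by
  refine le_antisymm (by rintro _ ⟨g, rfl⟩; exact rho_mem g) ((Subgroup.closure_le _).2 ?_)
  rintro _ ⟨l, hl, rfl⟩
  exact ⟨split0.mG.L l, (rho_word (w := [l]) (by simpa using hl) _ (model0.ev_one l).symm).trans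
    (Equiv.ext fun i => rfl)⟩

theorem exists_move (x : Fin 1755) : ∃ g ∈ Lgrp, g 0 = x := by
  have hx := forallLt_elim pt_order.2 x.isLt
  simp only [Bool.and_eq_true, Nat.blt_eq, Nat.beq_eq] at hx
  obtain ⟨hreach, -⟩ := orbit_of_tree (α := Fin 1755) (fourWords.map wordP) 1755
    (fun i => ptAt (ptOrder.field 16 i)) (ptStep fourWords (ptOrder.field 16)) (ptNext.field 16) (ptPar.field 16)
    (fun i k j hk hi hj hs => by
      simp only [ptStep, Bool.and_eq_true, Nat.blt_eq, Nat.beq_eq] at hs
      rw [List.length_map] at hk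
      rw [List.getD_eq_getElem _ _ (by rwa [List.length_map]), List.getElem_map, ← List.getD_eq_getElem _ [] hk,
        Equiv.Perm.smul_def, wordP_ptAt hs.1.1 hs.1.2, hs.2])
    (by decide) pt_tree
  have hle : Subgroup.closure {p | p ∈ fourWords.map wordP} ≤ Lgrp := by
    refine (Subgroup.closure_le _).2 fun p hp => ?_
    obtain ⟨w, hw, rfl⟩ := List.mem_map.1 (show p ∈ fourWords.map wordP from hp)
    refine wordP_mem fun l hl => ?_
    simp only [fourWords, List.mem_cons, List.not_mem_nil, or_false] at hw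
    rcases hw with rfl | rfl | rfl | rfl <;> simp at hl <;> simp [four, hl]
  obtain ⟨g, hg, e⟩ := hreach _ hx.1.2
  refine ⟨g, hle hg, ?_⟩
  rw [hx.2, Nat.eq_of_beq_eq_true pt_order.1, ptAt_val] at e
  exact e

theorem wordN_fix {j : ℕ} (hj : j < 16) : wordP (lword j) 0 = 0 :=
  Fin.ext ((wordP_val _ (wordOK_four (lword_spec (show j < 18 by omega)).2) 0).trans
    (Nat.eq_of_beq_eq_true (forallLt_elim lword_fix hj)))

theorem rho_injective : Function.Injective rho := by
  haveI := finite_Gp
  obtain ⟨hidx, hsimple, -, hD⟩ := split0.simple card_BG card_Gp core_BG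
  haveI := hsimple
  set D := commutator split0.Gp with hDdef
  set N := rho.ker with hN
  haveI hNn : N.Normal := MonoidHom.normal_ker rho
  rw [← MonoidHom.ker_eq_bot_iff]
  rcases (hNn.subgroupOf D).eq_bot_or_eq_top with h | h
  · have h2 : Nat.card ↥N ∣ 2 := by
      haveI : D.Normal := by rw [hDdef]; infer_instance
      have h1 : D.relIndex N ∣ D.index := Subgroup.relIndex_dvd_index_of_normal D N
      have e : Nat.card ↥N = D.relIndex N := by
        have hb : D.subgroupOf N = ⊥ := by
          rw [eq_bot_iff]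
          intro x hx
          rw [Subgroup.mem_bot]
          have : (⟨x.1, hx⟩ : ↥D) ∈ N.subgroupOf D := x.2
          rw [h, Subgroup.mem_bot] at this
          exact Subtype.ext (congrArg (fun z : ↥D => z.1) this)
        rw [Subgroup.relIndex, hb, Subgroup.index_bot]
      rw [e]; rwa [hidx] at h1
    haveI : Fact (Nat.Prime 2) := ⟨Nat.prime_two⟩
    obtain ⟨k, -, hk⟩ := (Nat.dvd_prime_pow Nat.prime_two (m := 1)).1 (by simpa using h2)
    obtain ⟨P, hP⟩ := (IsPGroup.of_card hk : IsPGroup 2 ↥N).exists_le_sylow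
    refine core_BG N hNn ?_
    let P0 : Sylow 2 split0.Gp := (IsPGroup.of_card card_BG).toSylow
      (fun h => Nat.not_even_iff_odd.2 index_BG (even_iff_two_dvd.2 h))
    obtain ⟨x, hx⟩ := MulAction.exists_smul_eq split0.Gp P P0
    intro z hz
    have : z ∈ ((x • P : Sylow 2 split0.Gp) : Subgroup split0.Gp) := by
      rw [Sylow.coe_subgroup_smul]
      refine ⟨x⁻¹ * z * x, hP (by simpa using hNn.conj_mem z hz x⁻¹), ?_⟩
      show x * (x⁻¹ * z * x) * x⁻¹ = z
      group
    rwa [hx, IsPGroup.toSylow_coe] at this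
  · exfalso
    have hle : D ≤ N := fun x hx => by
      have : (⟨x, hx⟩ : ↥D) ∈ N.subgroupOf D := h ▸ Subgroup.mem_top _
      exact this
    have h1 : N.index ∣ 2 := (Subgroup.index_dvd_of_le hle).trans (dvd_of_eq hidx)
    have h2 : Nat.card ↥Lgrp ≤ 2 := by
      rw [← rho_range, ← Subgroup.index_ker]
      exact Nat.le_of_dvd two_pos h1
    let f : Fin 1755 → ↥Lgrp := fun x => ⟨(exists_move x).choose, (exists_move x).choose_spec.1⟩
    have hf : Function.Injective f := fun x y e => by
      rw [← (exists_move x).choose_spec.2, ← (exists_move y).choose_spec.2]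
      exact congrArg (fun g : ↥Lgrp => g.1 0) e
    have := Nat.card_le_card_of_injective f hf
    rw [Nat.card_fin] at this
    omega

/-- The group is the twisted group. -/
noncomputable def groupEquiv : ↥(twistedF4 (ZMod 2) 1) ≃* ↥Lgrp :=
  toTw.symm.trans ((MonoidHom.ofInjective rho_injective).trans (MulEquiv.subgroupCongr rho_range))

theorem card_Lgrp : Nat.card ↥Lgrp = 35942400 := by
  rw [← Nat.card_congr ((MonoidHom.ofInjective rho_injective).trans (MulEquiv.subgroupCongr rho_range)).toEquiv,
    card_Gp]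

/-- The unipotent subgroup on the points. -/
noncomputable def Ugrp : Subgroup (Equiv.Perm (Fin 1755)) := split0.BG.map rho

theorem Ugrp_le : Ugrp ≤ Lgrp := by
  rintro _ ⟨g, -, rfl⟩
  exact rho_mem g

theorem card_Ugrp : Nat.card ↥Ugrp = 2 ^ 12 :=
  (Nat.card_congr (split0.BG.equivMapOfInjective rho rho_injective).toEquiv).symm.trans card_BG

theorem Ugrp_fix {g : Equiv.Perm (Fin 1755)} (hg : g ∈ Ugrp) : g 0 = 0 := by
  obtain ⟨x, hx, rfl⟩ := hg
  have hle : split0.mG.Bsub ≤ (stabilizer (Equiv.Perm (Fin 1755)) (0 : Fin 1755)).comap rho := by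
    refine split0.mG.clos_le fun j hj => ?_
    rw [split0.mG.ev_one]
    show rho (split0.mG.L j) • (0 : Fin 1755) = 0
    have hj' := List.mem_range.1 hj
    rw [rho_letter (show j < 18 by omega)]
    exact wordN_fix hj'
  exact hle hx

theorem Ugrp_gen : genP 0 ∈ Ugrp ∧ genP 1 ∈ Ugrp := by
  have key : ∀ l, l ∈ four → l < 16 → genP l ∈ Ugrp := fun l hl h16 =>
    ⟨split0.mG.L l, (split0.mG.ev_one l) ▸ split0.mG.mem_Bsub_of_lt h16,
      (rho_word (w := [l]) (by simpa using hl) _ (model0.ev_one l).symm).trans (Equiv.ext fun i => rfl)⟩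
  exact ⟨key 0 (by simp [four]) (by norm_num), key 1 (by simp [four]) (by norm_num)⟩

end CfsgLib.Recog.RuRankThree
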