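import Cfsg.Agent.Lib.Recog.RuRankThree.Family

/-!
# The graph on 4060 points made from the 1755 points and the 2304 sets
-/

set_option autoImplicit false
set_option maxRecDepth 10000

namespace CfsgLib.Recog.RuRankThree

open MulAction
open scoped Pointwise

/-- The points of the model: a first point, its neighbours, and the other points. -/
abbrev Pt := Option (Fin 1755 ⊕ Fin 2304)

/-- A neighbour of the first point. -/
def nearP (x : Fin 1755) : Pt := some (Sum.inl x)

/-- A point away from the first point. -/
def farP (i : Fin 2304) : Pt := some (Sum.inr i)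

/-- Adjacency on the model. -/
noncomputable def madj : Pt → Pt → Prop
  | none, some (Sum.inl _) => True
  | some (Sum.inl _), none => True
  | some (Sum.inl x), some (Sum.inl y) => aadj x y
  | some (Sum.inl x), some (Sum.inr i) => x ∈ famS i.val
  | some (Sum.inr i), some (Sum.inl x) => x ∈ famS i.val
  | some (Sum.inr i), some (Sum.inr j) => (famS i.val ∩ famS j.val).card = 332
  | _, _ => False

theorem card_Pt : Fintype.card Pt = 4060 := by simp

theorem madj_none (v : Pt) : madj none v ↔ ∃ x, v = nearP x := by
  rcases v with _ | (x | i) <;> simp [madj, nearP]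

theorem madj_near_near (x y : Fin 1755) : madj (nearP x) (nearP y) ↔ aadj x y := Iff.rfl

theorem madj_near_far (x : Fin 1755) (i : Fin 2304) : madj (nearP x) (farP i) ↔ x ∈ famS i.val := Iff.rfl

theorem nearP_inj : Function.Injective nearP := fun x y h => Sum.inl_injective (Option.some_injective _ h)

/-- The symmetries of the model. -/
def modelAut : Subgroup (Equiv.Perm Pt) where
  carrier := {g | ∀ u v, madj (g u) (g v) ↔ madj u v}
  one_mem' u v := Iff.rfl
  mul_mem' {g h} hg hh u v := by rw [Equiv.Perm.mul_apply, Equiv.Perm.mul_apply, hg, hh]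
  inv_mem' {g} hg u v := by
    rw [← hg (g⁻¹ u) (g⁻¹ v)]
    simp

theorem card_modelAut_le : Nat.card ↥modelAut ≤ 4060 * 35942400 := by
  classical
  let st := stabilizer ↥modelAut (none : Pt)
  have hnear : ∀ (s : ↥st) (x : Fin 1755), ∃ y, (s.1.1 : Equiv.Perm Pt) (nearP x) = nearP y := by
    intro s x
    have h := (s.1.2 none (nearP x)).2 ((madj_none _).2 ⟨x, rfl⟩)
    rw [show (s.1.1 : Equiv.Perm Pt) none = none from s.2] at h
    exact (madj_none _).1 h
  choose r hr using hnear
  have hrinj : ∀ s, Function.Injective (r s) := fun s x y h =>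
    nearP_inj ((s.1.1 : Equiv.Perm Pt).injective (by rw [hr, hr, h]))
  let R : ↥st → ↥autA := fun s =>
    ⟨Equiv.ofBijective (r s) (Finite.injective_iff_bijective.1 (hrinj s)), fun x y => by
      show aadj (r s x) (r s y) ↔ aadj x y
      rw [← madj_near_near, ← madj_near_near x y, ← hr, ← hr]
      exact s.1.2 _ _⟩
  have hR : Function.Injective R := by
    intro s t h
    have hxy : ∀ x, r s x = r t x := fun x =>
      congrArg (fun g : ↥autA => (g : Equiv.Perm (Fin 1755)) x) h
    have hs0 : (s.1.1 : Equiv.Perm Pt) none = none := s.2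
    have ht0 : (t.1.1 : Equiv.Perm Pt) none = none := t.2
    refine Subtype.ext (Subtype.ext (Equiv.ext fun v => ?_))
    rcases v with _ | (x | i)
    · rw [hs0, ht0]
    · show s.1.1 (nearP x) = t.1.1 (nearP x)
      rw [hr, hr, hxy]
    · show s.1.1 (farP i) = t.1.1 (farP i)
      have hfar : ∀ u : ↥st, ∃ j, u.1.1 (farP i) = farP j := by
        intro u
        rcases e : u.1.1 (farP i) with _ | (y | j)
        · have := u.1.1.injective (e.trans (show u.1.1 none = none from u.2).symm)
          exact absurd this (by simp [farP])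
        · exfalso
          have h := (u.1.2 none (farP i)).1 (by
            rw [show u.1.1 none = none from u.2, e]; exact (madj_none _).2 ⟨y, rfl⟩)
          obtain ⟨x, hx⟩ := (madj_none _).1 h
          simp [farP, nearP] at hx
        · exact ⟨j, rfl⟩
      obtain ⟨j, hj⟩ := hfar s
      obtain ⟨k, hk⟩ := hfar t
      have hset : famS j.val = famS k.val := by
        ext y
        obtain ⟨x, rfl⟩ := (Finite.injective_iff_bijective.1 (hrinj s)).2 y
        rw [← madj_near_far, ← hr, ← hj, s.1.2]
        conv_rhs => rw [hxy, ← madj_near_far, ← hr, ← hk, t.1.2]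
      rw [hj, hk, Fin.ext (famS_inj j.isLt k.isLt hset)]
  have h1 : Nat.card ↥st ≤ 35942400 := by
    rw [← card_Lgrp, ← autA_eq]
    exact Nat.card_le_card_of_injective R hR
  have h2 : st.index ≤ 4060 := by
    rw [index_stabilizer, ← card_Pt, ← Nat.card_eq_fintype_card]
    exact Set.ncard_le_card _
  rw [← st.card_mul_index, Nat.mul_comm]
  exact Nat.mul_le_mul h2 h1

end CfsgLib.Recog.RuRankThree
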