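import Cfsg.Agent.Lib.Recog.RuRankThree.Family

/-!
# The sets of 780 points fixed by the normalised element of order 13
-/

set_option autoImplicit false
set_option maxRecDepth 10000

namespace CfsgLib.Recog.RuRankThree

open MulAction
open scoped Pointwise
open CfsgLib.Sporadic (forallLt forallLt_elim countLt countLt_eq)

theorem sumLt_eq (f : ℕ → ℕ) : ∀ n, sumLt n f = ∑ i ∈ Finset.range n, f i
  | 0 => rfl
  | n + 1 => by
    show f n + sumLt n f = _
    rw [sumLt_eq f n, Finset.sum_range_succ, Nat.add_comm]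

theorem wSum_eq (f : ℕ → ℕ) (v : ℕ → Bool) : wSum f v = ∑ i ∈ Finset.range 42, if v i then f i else 0 := by
  rw [wSum, sumLt_eq]
  refine Finset.sum_congr rfl fun i _ => ?_
  cases v i <;> rfl

theorem wSum_mono {f : ℕ → ℕ} {u v : ℕ → Bool} (h : ∀ i < 42, u i = true → v i = true) : wSum f u ≤ wSum f v := by
  rw [wSum_eq, wSum_eq]
  refine Finset.sum_le_sum fun i hi => ?_
  by_cases hu : u i = true
  · rw [if_pos hu, if_pos (h i (Finset.mem_range.1 hi) hu)]
  · rw [if_neg hu]; exact Nat.zero_le _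

/-- A point of a clique. -/
noncomputable def cliqueS (j : ℕ) : Finset (Fin 1755) := ((clique j).map ptAt).toFinset

theorem clique_facts {j : ℕ} (hj : j < 72) : (clique j).length = 27 ∧ (clique j).Nodup ∧
    (∀ x ∈ clique j, x < 1755) ∧ ∀ x ∈ cliqueS j, ∀ y ∈ cliqueS j, x ≠ y → aadj x y := by
  have h := forallLt_elim cliques_ok hj
  simp only [cliqueOK, Bool.and_eq_true, List.all_eq_true, Bool.or_eq_true, Nat.beq_eq, Nat.blt_eq] at h
  obtain ⟨⟨h1, h2⟩, h3⟩ := h
  refine ⟨h1, (incB_spec _ 0 h2).2, fun x hx => (h3 x hx).1, ?_⟩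
  intro x hx y hy hne
  simp only [cliqueS, List.mem_toFinset, List.mem_map] at hx hy
  obtain ⟨a, ha, rfl⟩ := hx
  obtain ⟨b, hb, rfl⟩ := hy
  rcases (h3 a ha).2 b hb with e | e
  · exact absurd (congrArg ptAt e) hne
  · show aB (a % 1755) (b % 1755) = true
    rw [Nat.mod_eq_of_lt (h3 a ha).1, Nat.mod_eq_of_lt (h3 b hb).1]
    exact e

theorem cliqueS_card {j : ℕ} (hj : j < 72) : (cliqueS j).card = 27 := by
  obtain ⟨h1, h2, h3, -⟩ := clique_facts hj
  rw [cliqueS, List.toFinset_card_of_nodup, List.length_map, h1]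
  refine h2.map_on fun x hx y hy e => ?_
  have := congrArg Fin.val e
  simpa [ptAt, Nat.mod_eq_of_lt (h3 x hx), Nat.mod_eq_of_lt (h3 y hy)] using this

section

variable {T : Finset (Fin 1755)} (h18 : genP 18 • T = T) (h19 : genP 19 • T = T)
include h18 h19

theorem mem_iff_rep (x : Fin 1755) : x ∈ T ↔ ptAt (repN (orbN x.val)) ∈ T := by
  have inv : ∀ k, (k = 18 ∨ k = 19) → ∀ y, genP k y ∈ T ↔ y ∈ T := by
    intro k hk y
    have e : genP k • T = T := by rcases hk with rfl | rfl <;> assumption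
    conv_lhs => rw [← e, ← Finset.inv_smul_mem_iff, Equiv.Perm.smul_def]
    simp
  have key : ∀ j, j < 1755 →
      (ptAt (fOrder.field 16 j) ∈ T ↔ ptAt (repN (orbN (fOrder.field 16 j))) ∈ T) := by
    intro j
    induction j using Nat.strong_induction_on with
    | _ j ih =>
      intro hj
      have h := forallLt_elim forest_ok.1 hj
      simp only [forestOK, Bool.and_eq_true, Nat.blt_eq, Nat.beq_eq] at h
      obtain ⟨⟨⟨⟨hlt, -⟩, -⟩, -⟩, hc⟩ := h
      by_cases hp : Nat.beq (fPar.field 16 j) 65535 = true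
      · rw [hp, cond_true, Nat.beq_eq] at hc
        rw [← hc]
      · rw [Bool.not_eq_true] at hp
        rw [hp, cond_false] at hc
        simp only [Bool.and_eq_true, Nat.blt_eq, Nat.beq_eq] at hc
        obtain ⟨⟨hlt', hgen⟩, horb⟩ := hc
        set p := Nat.div (fPar.field 16 j) 2
        set q := Nat.mod (fPar.field 16 j) 2 with hq
        have hq2 : q < 2 := Nat.mod_lt _ two_pos
        have hp1755 : fOrder.field 16 p < 1755 := by
          have := forallLt_elim forest_ok.1 (show p < 1755 by omega)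
          simp only [forestOK, Bool.and_eq_true, Nat.blt_eq] at this
          exact this.1.1.1.1
        have e : genP (18 + q) (ptAt (fOrder.field 16 p)) = ptAt (fOrder.field 16 j) := Fin.ext (by
          rw [genP_val (by omega)]
          show genN _ (fOrder.field 16 p % 1755) = fOrder.field 16 j % 1755
          rw [Nat.mod_eq_of_lt hp1755, Nat.mod_eq_of_lt hlt]
          exact hgen)
        rw [← e, inv _ (by omega), ih p hlt' (by omega), horb]
  have h := forallLt_elim forest_ok.1 x.isLt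
  simp only [forestOK, Bool.and_eq_true, Nat.blt_eq, Nat.beq_eq] at h
  have := key _ h.1.1.1.2
  rw [h.1.1.2, ptAt_val] at this
  exact this

variable (hc : ∀ j < 72, (cliqueS j ∩ T).card = 12) (hT : T.card = 780)
include hc hT

theorem base_holds {j : ℕ} (hj : j < 73) :
    wSum (eP j) (fun i => decide (ptAt (repN i) ∈ T)) = eCN j ∧
      wSum (eN j) (fun i => decide (ptAt (repN i) ∈ T)) = 0 ∧ eCP j = 0 := by
  classical
  have h := forallLt_elim base_eqs hj
  simp only [baseEqOK, Bool.and_eq_true, Nat.beq_eq] at h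
  obtain ⟨⟨hrow, hcp⟩, hcn⟩ := h
  have hrow' : ∀ i < 42, _ ∧ eN j i = 0 := fun i hi => by
    have := forallLt_elim hrow hi
    simp only [Bool.and_eq_true, Nat.beq_eq] at this
    exact this
  refine ⟨?_, ?_, hcp⟩
  swap
  · rw [wSum_eq]
    refine Finset.sum_eq_zero fun i hi => ?_
    rw [(hrow' i (Finset.mem_range.1 hi)).2]
    split_ifs <;> rfl
  have key : ∀ S : Finset (Fin 1755), (∀ i < 42, eP j i = (S.filter fun x => orbN x.val = i).card) →
      wSum (eP j) (fun i => decide (ptAt (repN i) ∈ T)) = (S ∩ T).card := by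
    intro S hS
    rw [wSum_eq, Finset.card_eq_sum_card_fiberwise (t := Finset.range 42) (f := fun x : Fin 1755 => orbN x.val)]
    · refine Finset.sum_congr rfl fun i hi => ?_
      rw [hS i (Finset.mem_range.1 hi)]
      by_cases hv : ptAt (repN i) ∈ T
      · rw [if_pos (decide_eq_true hv)]
        congr 1
        ext x
        simp only [Finset.mem_filter, Finset.mem_inter]
        exact ⟨fun h => ⟨⟨h.1, (mem_iff_rep h18 h19 x).2 (by rw [h.2]; exact hv)⟩, h.2⟩,
          fun h => ⟨h.1.1, h.2⟩⟩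
      · rw [if_neg (by simp [hv]), eq_comm, Finset.card_eq_zero, Finset.filter_eq_empty_iff]
        intro x hx e
        exact hv (e ▸ (mem_iff_rep h18 h19 x).1 (Finset.mem_inter.1 hx).2)
    · intro x _
      have h := forallLt_elim forest_ok.1 x.isLt
      simp only [forestOK, Bool.and_eq_true, Nat.blt_eq] at h
      exact Finset.mem_range.2 h.1.2
  rcases Nat.lt_or_ge j 72 with hj' | hj'
  · rw [hcn, Nat.blt_eq.mpr hj', cond_true, ← hc j hj']
    refine key _ fun i hi => ?_
    rw [(hrow' i hi).1, Nat.blt_eq.mpr hj', cond_true]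
    obtain ⟨-, hnd, hlt, -⟩ := clique_facts hj'
    rw [List.countP_eq_length_filter, ← List.toFinset_card_of_nodup (hnd.filter _)]
    refine (Finset.card_bij (fun x _ => x.val) ?_ ?_ ?_).symm
    · intro x hx
      simp only [Finset.mem_filter, cliqueS, List.mem_toFinset, List.mem_map] at hx
      obtain ⟨⟨a, ha, rfl⟩, e⟩ := hx
      simp only [ptAt, Nat.mod_eq_of_lt (hlt a ha)] at e ⊢
      rw [List.mem_toFinset, List.mem_filter, Nat.beq_eq]
      exact ⟨ha, e⟩
    · intro x _ y _ e
      exact Fin.ext e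
    · intro a ha
      rw [List.mem_toFinset, List.mem_filter, Nat.beq_eq] at ha
      refine ⟨ptAt a, ?_, Nat.mod_eq_of_lt (hlt a ha.1)⟩
      simp only [Finset.mem_filter, cliqueS, List.mem_toFinset, List.mem_map]
      exact ⟨⟨a, ha.1, rfl⟩, by rw [show (ptAt a).val = a from Nat.mod_eq_of_lt (hlt a ha.1)]; exact ha.2⟩
  · have hf : Nat.blt j 72 = false := Bool.eq_false_iff.2 fun e => by have := Nat.blt_eq.mp e; omega
    rw [hcn, hf, cond_false, ← hT]
    rw [key Finset.univ fun i hi => ?_, Finset.univ_inter]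
    rw [(hrow' i hi).1, hf, cond_false, countLt_eq]
    refine (Finset.card_bij (fun x _ => x.val) ?_ ?_ ?_).symm
    · intro x hx
      rw [Finset.mem_filter] at hx
      rw [Finset.mem_filter, Finset.mem_range, Nat.beq_eq]
      exact ⟨x.isLt, hx.2⟩
    · intro x _ y _ e
      exact Fin.ext e
    · intro a ha
      rw [Finset.mem_filter, Finset.mem_range, Nat.beq_eq] at ha
      exact ⟨⟨a, ha.1⟩, Finset.mem_filter.2 ⟨Finset.mem_univ _, ha.2⟩, rfl⟩

theorem eq_holds {j : ℕ} (hj : j < 95) :
    wSum (eP j) (fun i => decide (ptAt (repN i) ∈ T)) + eCP j =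
      wSum (eN j) (fun i => decide (ptAt (repN i) ∈ T)) + eCN j := by
  rcases Nat.lt_or_ge j 73 with hj' | hj'
  · obtain ⟨h1, h2, h3⟩ := base_holds h18 h19 hc hT hj'
    rw [h1, h2, h3]; omega
  obtain ⟨r, rfl⟩ : ∃ r, j = 73 + r := ⟨j - 73, by omega⟩
  set v : ℕ → Bool := fun i => decide (ptAt (repN i) ∈ T)
  have h := forallLt_elim der_eqs.1 (show r < 22 by omega)
  simp only [derOK, Bool.and_eq_true, Nat.beq_eq] at h
  obtain ⟨hrow, hconst⟩ := h
  simp only [sumLt_eq] at hrow hconst
  set a : ℕ → ℕ := fun q => field32 (lamP.getD r 0) q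
  set b : ℕ → ℕ := fun q => field32 (lamN.getD r 0) q
  have hrow' : ∀ i < 42, (∑ q ∈ Finset.range 73, a q * eP q i) + eN (73 + r) i =
      (∑ q ∈ Finset.range 73, b q * eP q i) + eP (73 + r) i := fun i hi => by
    have := forallLt_elim hrow hi
    rw [Nat.beq_eq] at this
    exact this
  have hsum : ∀ c : ℕ → ℕ, (∑ i ∈ Finset.range 42, if v i then ∑ q ∈ Finset.range 73, c q * eP q i else 0) =
      ∑ q ∈ Finset.range 73, c q * eCN q := fun c => by
    have : ∀ i, (if v i then ∑ q ∈ Finset.range 73, c q * eP q i else 0) =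
        ∑ q ∈ Finset.range 73, c q * (if v i then eP q i else 0) := fun i => by
      split_ifs <;> simp
    simp only [this]
    rw [Finset.sum_comm]
    refine Finset.sum_congr rfl fun q hq => ?_
    rw [← Finset.mul_sum, ← wSum_eq, (base_holds h18 h19 hc hT (Finset.mem_range.1 hq)).1]
  have htot : (∑ q ∈ Finset.range 73, a q * eCN q) + wSum (eN (73 + r)) v =
      (∑ q ∈ Finset.range 73, b q * eCN q) + wSum (eP (73 + r)) v := by
    rw [← hsum a, ← hsum b, wSum_eq, wSum_eq, ← Finset.sum_add_distrib, ← Finset.sum_add_distrib]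
    refine Finset.sum_congr rfl fun i hi => ?_
    split_ifs with hv
    · exact hrow' i (Finset.mem_range.1 hi)
    · rfl
  have hconst' : (∑ q ∈ Finset.range 73, a q * eCN q) + eCP (73 + r) =
      (∑ q ∈ Finset.range 73, b q * eCN q) + eCN (73 + r) := hconst
  omega

end

/-- A choice compatible with a partial one. -/
def Compat (v : ℕ → Bool) (s : ℕ × ℕ) : Prop :=
  ∀ i, i < 42 → (s.1.testBit i = true → v i = true) ∧ (s.2.testBit i = true → v i = false)

/-- The choice is one of the solutions. -/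
def IsSol (v : ℕ → Bool) : Prop := ∃ k < 31, ∀ i < 42, v i = (solCodes.getD k 0).testBit i

theorem no_conflict {v : ℕ → Bool} {j c e : ℕ}
    (hv : wSum (eP j) v + eCP j = wSum (eN j) v + eCN j) (hs : Compat v (c, e)) :
    confP j c e = false ∧ confN j c e = false := by
  have hlo : ∀ f, wSum f (bt c) ≤ wSum f v := fun f => wSum_mono fun i hi h => (hs i hi).1 (by rwa [← bt_eq])
  have hhi : ∀ f, wSum f v ≤ wSum f (fun i => !bt e i) := fun f => wSum_mono fun i hi h => by
    rw [Bool.not_eq_true', bt_eq]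
    exact Bool.eq_false_iff.2 fun h' => by have := (hs i hi).2 h'; rw [h] at this; exact Bool.noConfusion this
  have hz : Nat.beq (eqN.getD j 0) 0 = true → ∀ sel, wSum (eN j) sel = 0 := fun h sel => by
    rw [wSum_eq]
    refine Finset.sum_eq_zero fun i _ => ?_
    have : eN j i = 0 := by
      rw [eN, Nat.eq_of_beq_eq_true h, field16]
      show (0 >>> _) &&& _ = 0
      simp
    rw [this]; split_ifs <;> rfl
  have ep := hlo (eP j)
  have en := hlo (eN j)
  have ep' := hhi (eP j)
  have en' := hhi (eN j)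
  constructor
  · refine Bool.eq_false_iff.2 fun h => ?_
    have h' := Nat.blt_eq.mp h
    cases hb : Nat.beq (eqN.getD j 0) 0
    · rw [hb, cond_false] at h'
      simp only [Nat.add_eq] at h'
      omega
    · rw [hb, cond_true] at h'
      simp only [Nat.add_eq] at h'
      rw [hz hb] at hv
      omega
  · refine Bool.eq_false_iff.2 fun h => ?_
    have h' := Nat.blt_eq.mp h
    cases hb : Nat.beq (eqN.getD j 0) 0
    · rw [hb, cond_false] at h'
      simp only [Nat.add_eq] at h'
      omega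
    · rw [hb, cond_true] at h'
      simp only [Nat.add_eq] at h'
      rw [hz hb] at hv
      omega

theorem step_sound {v : ℕ → Bool} (hv : ∀ j < 95, wSum (eP j) v + eCP j = wSum (eN j) v + eCN j)
    (tok c e : ℕ) (rest : List (ℕ × ℕ)) (ih : List (ℕ × ℕ) → Option (List (ℕ × ℕ))) (st' : List (ℕ × ℕ))
    (h : searchStep tok c e rest ih = some st') (hs : ∃ s ∈ (c, e) :: rest, Compat v s) :
    IsSol v ∨ ∃ st, ih st = some st' ∧ ∃ s ∈ st, Compat v s := by
  obtain ⟨s, hs, hcomp⟩ := hs
  unfold searchStep at h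
  cases h1 : Nat.beq (Nat.land tok 1) 1
  · rw [h1, cond_false] at h
    cases h2 : Nat.beq (Nat.land tok 3) 2
    · rw [h2, cond_false] at h
      right
      rcases List.mem_cons.1 hs with rfl | hs
      · set i := Nat.shiftRight tok 2
        have hbit : ∀ x j, (Nat.lor x (Nat.shiftLeft 1 i)).testBit j = true → x.testBit j = true ∨ i = j := by
          intro x j hj
          rw [show Nat.lor x (Nat.shiftLeft 1 i) = x ||| 1 <<< i from rfl, Nat.testBit_or, Nat.shiftLeft_eq, one_mul,
            Nat.testBit_two_pow, Bool.or_eq_true, decide_eq_true_eq] at hj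
          exact hj
        cases hvi : v i
        · refine ⟨_, h, _, List.mem_cons_of_mem _ List.mem_cons_self, fun j hj => ⟨(hcomp j hj).1, fun hb => ?_⟩⟩
          rcases hbit _ _ hb with hb | rfl
          exacts [(hcomp j hj).2 hb, hvi]
        · refine ⟨_, h, _, List.mem_cons_self, fun j hj => ⟨fun hb => ?_, (hcomp j hj).2⟩⟩
          rcases hbit _ _ hb with hb | rfl
          exacts [(hcomp j hj).1 hb, hvi]
      · exact ⟨_, h, s, List.mem_cons_of_mem _ (List.mem_cons_of_mem _ hs), hcomp⟩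
    · rw [h2, cond_true] at h
      cases hb : Nat.blt (Nat.shiftRight tok 2) 31 && Nat.beq c (solCodes.getD (Nat.shiftRight tok 2) 0) &&
          Nat.beq (Nat.lor c e) (Nat.sub (Nat.shiftLeft 1 42) 1)
      · rw [hb, cond_false] at h; exact absurd h (by simp)
      · rw [hb, cond_true] at h
        simp only [Bool.and_eq_true, Nat.blt_eq, Nat.beq_eq] at hb
        rcases List.mem_cons.1 hs with rfl | hs
        · refine Or.inl ⟨_, hb.1.1, fun i hi => ?_⟩
          rw [← hb.1.2]
          have hf : (Nat.lor c e).testBit i = true := by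
            rw [hb.2, show Nat.sub (Nat.shiftLeft 1 42) 1 = 1 <<< 42 - 1 from rfl, Nat.shiftLeft_eq, one_mul,
              Nat.testBit_two_pow_sub_one]
            exact decide_eq_true hi
          rw [show Nat.lor c e = c ||| e from rfl, Nat.testBit_or] at hf
          cases hci : c.testBit i
          · rw [hci, Bool.false_or] at hf; exact (hcomp i hi).2 hf
          · exact (hcomp i hi).1 hci
        · exact Or.inr ⟨_, h, s, hs, hcomp⟩
  · rw [h1, cond_true] at h
    right
    cases hb : (cond (Nat.beq (Nat.land tok 3) 1) (confP (Nat.shiftRight tok 2) c e)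
        (confN (Nat.shiftRight tok 2) c e) && Nat.blt (Nat.shiftRight tok 2) 95)
    · rw [hb, cond_false] at h; exact absurd h (by simp)
    · rw [hb, cond_true] at h
      rw [Bool.and_eq_true, Nat.blt_eq] at hb
      rcases List.mem_cons.1 hs with rfl | hs
      · obtain ⟨n1, n2⟩ := no_conflict (hv _ hb.2) hcomp
        rw [n1, n2] at hb
        exact absurd hb.1 (by cases Nat.beq (Nat.land tok 3) 1 <;> simp)
      · exact ⟨_, h, s, hs, hcomp⟩

theorem go_sound {v : ℕ → Bool} (hv : ∀ j < 95, wSum (eP j) v + eCP j = wSum (eN j) v + eCN j) :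
    ∀ (n idx : ℕ) (st st' : List (ℕ × ℕ)), searchGo n idx st = some st' → (∃ s ∈ st, Compat v s) →
      IsSol v ∨ ∃ s ∈ st', Compat v s
  | 0, idx, st, st', h, hs => by
    right
    have : st = st' := Option.some.inj h
    exact this ▸ hs
  | n + 1, idx, [], st', h, hs => by simp at hs
  | n + 1, idx, (c, e) :: rest, st', h, hs => by
    rcases step_sound hv (searchT.field 16 idx) c e rest (searchGo n (Nat.add idx 1)) st' h hs with h' | ⟨st, h', hs'⟩
    · exact Or.inl h'
    · exact go_sound hv n _ st st' h' hs'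

theorem isSol_of_eqs {v : ℕ → Bool} (hv : ∀ j < 95, wSum (eP j) v + eCP j = wSum (eN j) v + eCN j) : IsSol v := by
  by_contra hno
  have hseg : ∀ s, s < 26 → ∃ n, segOK s n = true := by
    intro s hs
    interval_cases s
    exacts [⟨_, seg_ok0⟩, ⟨_, seg_ok1⟩, ⟨_, seg_ok2⟩, ⟨_, seg_ok3⟩, ⟨_, seg_ok4⟩, ⟨_, seg_ok5⟩, ⟨_, seg_ok6⟩,
      ⟨_, seg_ok7⟩, ⟨_, seg_ok8⟩, ⟨_, seg_ok9⟩, ⟨_, seg_ok10⟩, ⟨_, seg_ok11⟩, ⟨_, seg_ok12⟩, ⟨_, seg_ok13⟩,
      ⟨_, seg_ok14⟩, ⟨_, seg_ok15⟩, ⟨_, seg_ok16⟩, ⟨_, seg_ok17⟩, ⟨_, seg_ok18⟩, ⟨_, seg_ok19⟩, ⟨_, seg_ok20⟩,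
      ⟨_, seg_ok21⟩, ⟨_, seg_ok22⟩, ⟨_, seg_ok23⟩, ⟨_, seg_ok24⟩, ⟨_, seg_ok25⟩]
  have key : ∀ s, s ≤ 26 → ∃ p ∈ searchStacks.getD s [], Compat v p := by
    intro s
    induction s with
    | zero =>
      intro _
      exact ⟨(0, 0), by rw [seg_ends.1]; exact List.mem_cons_self, fun i _ => by simp⟩
    | succ s ih =>
      intro hs
      obtain ⟨n, hn⟩ := hseg s (by omega)
      rw [segOK, decide_eq_true_eq] at hn
      exact (go_sound hv _ _ _ _ hn (ih (by omega))).resolve_left hno
  obtain ⟨p, hp, -⟩ := key 26 le_rfl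
  rw [seg_ends.2.1] at hp
  exact absurd hp List.not_mem_nil

/-- The sets with the counting properties are in the family. -/
theorem candidates {T : Finset (Fin 1755)} (h18 : genP 18 • T = T) (h19 : genP 19 • T = T)
    (hc : ∀ j < 72, (cliqueS j ∩ T).card = 12) (hT : T.card = 780) (hdvd : 2925 ∣ 2304 * lineCount T) :
    ∃ i < 2304, T = famS i := by
  obtain ⟨k, hk, hv⟩ := isSol_of_eqs (v := fun i => decide (ptAt (repN i) ∈ T))
    fun j hj => eq_holds h18 h19 hc hT hj
  have hs := forallLt_elim sols_ok hk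
  simp only [solOK, Bool.and_eq_true] at hs
  have hTm : T = ofMask (solMasks.getD k 0) := by
    ext x
    have hx := forallLt_elim forest_ok.1 x.isLt
    simp only [forestOK, Bool.and_eq_true, Nat.blt_eq] at hx
    have hb := beq_iff_eq.1 (forallLt_elim hs.2 x.isLt)
    rw [bt_eq, bt_eq] at hb
    rw [mem_ofMask, hb, ← hv _ hx.1.2, decide_eq_true_eq, ← mem_iff_rep h18 h19 x]
  have h := forallLt_elim sols_case hk
  rw [solCase] at h
  by_cases hf : Nat.blt (solFam.getD k 0) 2304 = true
  · rw [hf, cond_true, Nat.beq_eq] at h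
    exact ⟨_, Nat.blt_eq.mp hf, by rw [hTm, h]; rfl⟩
  · exfalso
    rw [Bool.not_eq_true] at hf
    rw [hf, cond_false, Bool.not_eq_true', ← Bool.not_eq_true, Nat.beq_eq, ← lineCount_mask, ← hTm] at h
    exact h (Nat.mod_eq_zero_of_dvd hdvd)

end CfsgLib.Recog.RuRankThree
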