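import Cfsg.Agent.Lib.Recog.RuRankThree.GraphChecks

/-!
# The unions of suborbits on the 1755 points
-/

set_option autoImplicit false
set_option maxRecDepth 100000

namespace CfsgLib.Recog.RuRankThree

open CfsgLib.Sporadic (countLt)

/-- A union of suborbits. -/
noncomputable def selM (k : ℕ) : ℕ :=
  Nat.lor (cond (bt k 0) m10 0) (Nat.lor (cond (bt k 1) m80 0)
    (Nat.lor (cond (bt k 2) m640 0) (cond (bt k 3) m1024 0)))

theorem sub_sums : (List.range 16).map (fun k => countLt 1755 (bt (selM k))) =
      [0, 10, 80, 90, 640, 650, 720, 730, 1024, 1034, 1104, 1114, 1664, 1674, 1744, 1754] ∧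
    bt (selM 15) 0 = false := by
  decide +kernel

end CfsgLib.Recog.RuRankThree
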