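import Cfsg.Agent.Lib.Recog.RuRankThree.Action

/-!
# A subgroup of order 15600 contains a conjugate of the fixed group 13:4
-/

set_option autoImplicit false
set_option maxRecDepth 10000

namespace CfsgLib.Recog.RuRankThree

open MulAction
open scoped Pointwise
open CfsgLib.Sporadic (forallLt forallLt_elim)

theorem t_orders : forallLt 1755 (fun x =>
      Nat.beq (Nat.rec x (fun _ ih => genN 18 ih) 13) x) = true ∧
    forallLt 1755 (fun x => Nat.beq (genN 19 (genN 18 x)) (Nat.rec (genN 19 x) (fun _ ih => genN 18 ih) 5)) = true := by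
  decide +kernel

theorem genP_pow_val (k : ℕ) : ∀ x : Fin 1755,
    ((genP 18 ^ k) x).val = (Nat.rec x.val (fun _ ih => genN 18 ih) k : ℕ) := by
  induction k with
  | zero => intro x; rfl
  | succ k ih =>
    intro x
    rw [pow_succ', Equiv.Perm.mul_apply, genP_val (by norm_num), ih]

/-- The element of order thirteen. -/
noncomputable def tEl : ↥Lgrp := ⟨genP 18, tgen_mem⟩

/-- The normalising element. -/
noncomputable def nEl : ↥Lgrp := ⟨genP 19, ngen_mem⟩

theorem order_tEl : orderOf tEl = 13 := by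
  have : Fact (Nat.Prime 13) := ⟨by norm_num⟩
  refine orderOf_eq_prime (Subtype.ext (Equiv.ext fun x => Fin.ext ?_)) fun h => ?_
  · show ((genP 18 ^ 13) x).val = x.val
    rw [genP_pow_val]
    exact Nat.eq_of_beq_eq_true (forallLt_elim t_orders.1 x.isLt)
  · refine t_word.2.2.2 ?_
    have := congrArg (fun g : ↥Lgrp => ((g : Equiv.Perm (Fin 1755)) (ptAt 2)).val) h
    simp only [tEl, genP_val (show (18 : ℕ) < 20 by norm_num), Subgroup.coe_one, Equiv.Perm.one_apply] at this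
    exact this

theorem nEl_conj : nEl * tEl * nEl⁻¹ = tEl ^ 5 := by
  rw [mul_inv_eq_iff_eq_mul]
  refine Subtype.ext (Equiv.ext fun x => Fin.ext ?_)
  show (genP 19 (genP 18 x)).val = ((genP 18 ^ 5) (genP 19 x)).val
  rw [genP_pow_val, genP_val (by norm_num), genP_val (by norm_num), genP_val (by norm_num)]
  exact Nat.eq_of_beq_eq_true (forallLt_elim t_orders.2 x.isLt)

theorem comm_tEl {g : ↥Lgrp} (h : g * tEl = tEl * g) : ∃ k : ℕ, g = tEl ^ k := by
  obtain ⟨k, -, hk⟩ := cent_t (Lgrp_le_autA g.2) (congrArg Subtype.val h)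
  exact ⟨k, Subtype.ext hk⟩

theorem exists_index (x : ↥Lgrp) (hx : x * tEl * x⁻¹ ∈ Subgroup.zpowers tEl) :
    ∃ k < 13, x * tEl * x⁻¹ = tEl ^ k := by
  have hfin : IsOfFinOrder tEl := orderOf_pos_iff.1 (by rw [order_tEl]; norm_num)
  rw [← hfin.mem_powers_iff_mem_zpowers, Submonoid.mem_powers_iff] at hx
  obtain ⟨k, hk⟩ := hx
  exact ⟨k % 13, Nat.mod_lt _ (by norm_num), by rw [← hk, ← order_tEl, pow_mod_orderOf]⟩

theorem conj_iter {x : ↥Lgrp} {k : ℕ} (h : x * tEl * x⁻¹ = tEl ^ k) : ∀ i : ℕ,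
    x ^ i * tEl * (x ^ i)⁻¹ = tEl ^ k ^ i
  | 0 => by simp
  | i + 1 => by
    calc x ^ (i + 1) * tEl * (x ^ (i + 1))⁻¹ = x * (x ^ i * tEl * (x ^ i)⁻¹) * x⁻¹ := by
          rw [pow_succ']; group
      _ = tEl ^ k ^ (i + 1) := by
          rw [conj_iter h i, ← conj_pow, h, ← pow_mul, pow_succ']

theorem four_residues : ∀ k < 13, k ^ 52 % 13 = 1 → k = 1 ∨ k = 5 ∨ k = 8 ∨ k = 12 := by decide +kernel

theorem sylow_count : ∀ n : ℕ, n ∣ 1200 → n % 13 = 1 → n = 1 ∨ n = 40 ∨ n = 300 := by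
  intro n hn hmod
  have hle : n ≤ 1200 := Nat.le_of_dvd (by norm_num) hn
  have key : ∀ m < 93, (13 * m + 1) ∣ 1200 → 13 * m + 1 = 1 ∨ 13 * m + 1 = 40 ∨ 13 * m + 1 = 300 := by
    decide +kernel
  have e : n = 13 * (n / 13) + 1 := by omega
  rw [e]
  exact key _ (by omega) (e ▸ hn)

/-- A subgroup with the element of order thirteen and order 15600 has the normalising element. -/
theorem nEl_mem {M : Subgroup ↥Lgrp} (hM : Nat.card ↥M = 15600) (ht : tEl ∈ M) : nEl ∈ M := by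
  classical
  have : Fact (Nat.Prime 13) := ⟨by norm_num⟩
  have : Finite ↥Lgrp := Nat.finite_of_card_ne_zero (by rw [card_Lgrp]; norm_num)
  let tM : ↥M := ⟨tEl, ht⟩
  have hto : orderOf tM = 13 := by rw [← Subgroup.orderOf_coe]; exact order_tEl
  have hZ : Nat.card ↥(Subgroup.zpowers tM) = 13 := (Nat.card_zpowers tM).trans hto
  have hfac : (13 : ℕ) = 13 ^ (Nat.card ↥M).factorization 13 := by
    rw [hM, show (15600 : ℕ) = 1200 * 13 by norm_num, Nat.factorization_mul (by norm_num) (by norm_num),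
      Finsupp.add_apply, Nat.factorization_eq_zero_of_not_dvd (by norm_num),
      Nat.Prime.factorization_self (by norm_num : Nat.Prime 13)]
    norm_num
  let P : Sylow 13 ↥M := Sylow.ofCard (Subgroup.zpowers tM) (hZ.trans hfac)
  set N := Subgroup.normalizer (↑(Subgroup.zpowers tM) : Set ↥M) with hNdef
  have hn : Nat.card (Sylow 13 ↥M) = N.index := P.card_eq_index_normalizer
  have hle : Subgroup.zpowers tM ≤ N := Subgroup.le_normalizer
  have hidx : (Subgroup.zpowers tM).index = 1200 := by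
    have := (Subgroup.zpowers tM).card_mul_index
    rw [hZ, hM] at this
    omega
  have hdvd : N.index ∣ 1200 := hidx ▸ Subgroup.index_dvd_of_le hle
  have hmod : N.index % 13 = 1 := by
    rw [← hn]
    exact card_sylow_modEq_one 13 ↥M
  have hNc := N.card_mul_index
  rw [hM] at hNc
  -- exponents
  have hexp : ∀ x : ↥N, ∃ k < 13, (x.1 : ↥Lgrp) * tEl * (x.1 : ↥Lgrp)⁻¹ = tEl ^ k := by
    intro x
    refine exists_index _ ?_
    have h1 : x.1 * tM * x.1⁻¹ ∈ Subgroup.zpowers tM :=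
      (Subgroup.mem_normalizer_iff.1 x.2 tM).1 (Subgroup.mem_zpowers tM)
    obtain ⟨j, hj⟩ := Subgroup.mem_zpowers_iff.1 h1
    exact Subgroup.mem_zpowers_iff.2 ⟨j, congrArg Subtype.val hj⟩
  choose e he he' using hexp
  let K : Finset ℕ := (Finset.univ : Finset ↥N).image e
  have hcomm : ∀ y z : ↥N, e y = e z →
      ∃ i < 13, ((y⁻¹ * z : ↥N).1 : ↥Lgrp) = tEl ^ i := by
    intro y z hyz
    have hy := he' y
    rw [hyz, ← he' z] at hy
    obtain ⟨i, hi⟩ := comm_tEl (g := ((y⁻¹ * z : ↥N).1 : ↥Lgrp)) (by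
      rw [← mul_inv_eq_iff_eq_mul]
      show ((y.1 : ↥Lgrp)⁻¹ * (z.1 : ↥Lgrp)) * tEl * ((y.1 : ↥Lgrp)⁻¹ * (z.1 : ↥Lgrp))⁻¹ = tEl
      calc _ = (y.1 : ↥Lgrp)⁻¹ * ((z.1 : ↥Lgrp) * tEl * (z.1 : ↥Lgrp)⁻¹) * (y.1 : ↥Lgrp) := by group
        _ = _ := by rw [← hy]; group)
    exact ⟨i % 13, Nat.mod_lt _ (by norm_num), by rw [hi, ← order_tEl, pow_mod_orderOf]⟩
  have hNK : Nat.card ↥N ≤ 13 * K.card := by
    rw [Nat.card_eq_fintype_card, ← Finset.card_univ]
    refine Finset.card_le_mul_card_image _ 13 fun k hk => ?_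
    obtain ⟨y, -, rfl⟩ := Finset.mem_image.1 hk
    refine le_trans (Finset.card_le_card_of_injOn (fun z => ((y⁻¹ * z : ↥N).1 : ↥Lgrp))
      (t := (Finset.range 13).image fun i => tEl ^ i) ?_ ?_) (Finset.card_image_le.trans (by simp))
    · intro z hz
      rw [Finset.coe_filter, Set.mem_ofPred_eq] at hz
      obtain ⟨i, hi, h⟩ := hcomm y z hz.2.symm
      exact Finset.mem_coe.2 (Finset.mem_image.2 ⟨i, Finset.mem_range.2 hi, h.symm⟩)
    · intro z _ w _ h
      exact mul_left_cancel (a := y⁻¹) (Subtype.ext (Subtype.ext h))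
  have hK13 : K.card ≤ 13 := by
    refine le_trans (Finset.card_le_card (t := Finset.range 13) fun k hk => ?_) (by simp)
    obtain ⟨y, -, rfl⟩ := Finset.mem_image.1 hk
    exact Finset.mem_range.2 (he y)
  have hN : Nat.card ↥N = 52 := by
    rcases sylow_count _ hdvd hmod with h | h | h <;> rw [h] at hNc <;> omega
  have hK4 : K ⊆ {1, 5, 8, 12} := by
    intro k hk
    obtain ⟨x, -, rfl⟩ := Finset.mem_image.1 hk
    have hpow : (x.1 : ↥Lgrp) ^ 52 = 1 := by
      have := congrArg (fun z : ↥N => (z.1 : ↥Lgrp)) (pow_card_eq_one' (x := x))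
      rw [hN] at this
      exact this
    have h1 := conj_iter (he' x) 52
    rw [hpow, one_mul, inv_one, mul_one] at h1
    have h2 := pow_eq_pow_iff_modEq.1 ((pow_one tEl).trans h1)
    rw [order_tEl] at h2
    simpa using four_residues _ (he x) h2.symm
  have hK : K = {1, 5, 8, 12} := by
    refine Finset.eq_of_subset_of_card_le hK4 ?_
    have : ({1, 5, 8, 12} : Finset ℕ).card = 4 := rfl
    omega
  obtain ⟨x, -, hx5⟩ := Finset.mem_image.1 (show 5 ∈ K by rw [hK]; simp)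
  have h5 := he' x
  rw [hx5, ← nEl_conj] at h5
  obtain ⟨i, hi⟩ := comm_tEl (g := nEl⁻¹ * (x.1 : ↥Lgrp)) (by
    rw [← mul_inv_eq_iff_eq_mul]
    calc _ = nEl⁻¹ * ((x.1 : ↥Lgrp) * tEl * (x.1 : ↥Lgrp)⁻¹) * nEl := by group
      _ = tEl := by rw [h5]; group)
  have e : nEl = (x.1 : ↥Lgrp) * (tEl ^ i)⁻¹ := by rw [← hi]; group
  rw [e]
  exact mul_mem x.1.2 (inv_mem (pow_mem ht i))

/-- A subgroup of order 15600 contains a conjugate of the two elements. -/
theorem exists_conj {M : Subgroup ↥Lgrp} (hM : Nat.card ↥M = 15600) :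
    ∃ h : ↥Lgrp, h⁻¹ * tEl * h ∈ M ∧ h⁻¹ * nEl * h ∈ M := by
  classical
  have : Fact (Nat.Prime 13) := ⟨by norm_num⟩
  have : Finite ↥Lgrp := Nat.finite_of_card_ne_zero (by rw [card_Lgrp]; norm_num)
  obtain ⟨q, hq⟩ := exists_prime_orderOf_dvd_card' (G := ↥M) 13 (by rw [hM]; norm_num)
  have hqo : orderOf (q : ↥Lgrp) = 13 := (Subgroup.orderOf_coe q).trans hq
  have hfac : (13 : ℕ) = 13 ^ (Nat.card ↥Lgrp).factorization 13 := by
    rw [card_Lgrp, show (35942400 : ℕ) = 2764800 * 13 by norm_num, Nat.factorization_mul (by norm_num) (by norm_num),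
      Finsupp.add_apply, Nat.factorization_eq_zero_of_not_dvd (by norm_num),
      Nat.Prime.factorization_self (by norm_num : Nat.Prime 13)]
    norm_num
  let P1 : Sylow 13 ↥Lgrp :=
    Sylow.ofCard (Subgroup.zpowers (q : ↥Lgrp)) ((Nat.card_zpowers _).trans (hqo.trans hfac))
  let P2 : Sylow 13 ↥Lgrp := Sylow.ofCard (Subgroup.zpowers tEl) ((Nat.card_zpowers _).trans (order_tEl.trans hfac))
  obtain ⟨h, hh⟩ := MulAction.exists_smul_eq ↥Lgrp P1 P2
  have hmem : tEl ∈ ((h • P1 : Sylow 13 ↥Lgrp) : Subgroup ↥Lgrp) := by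
    rw [hh]; exact Subgroup.mem_zpowers _
  rw [Sylow.coe_subgroup_smul, Subgroup.mem_pointwise_smul_iff_inv_smul_mem, MulAut.smul_def,
    MulAut.conj_inv_apply] at hmem
  have hqM : Subgroup.zpowers (q : ↥Lgrp) ≤ M := Subgroup.zpowers_le.2 q.2
  let M' : Subgroup ↥Lgrp := M.map (MulAut.conj h).toMonoidHom
  have hM' : Nat.card ↥M' = 15600 := by
    rw [← hM]; exact Subgroup.card_map_of_injective (MulEquiv.injective _)
  have hiff : ∀ g, g ∈ M' → h⁻¹ * g * h ∈ M := by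
    rintro _ ⟨m, hm, rfl⟩
    show h⁻¹ * (h * m * h⁻¹) * h ∈ M
    rw [show h⁻¹ * (h * m * h⁻¹) * h = m by group]
    exact hm
  refine ⟨h, hqM hmem, hiff _ (nEl_mem hM' ⟨h⁻¹ * tEl * h, hqM hmem, ?_⟩)⟩
  show h * (h⁻¹ * tEl * h) * h⁻¹ = tEl
  group

end CfsgLib.Recog.RuRankThree
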