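import Cfsg.Agent.Lib.Recog.RuRankThree.Counting
import Cfsg.Agent.Lib.Recog.RuRankThree.Model
import Cfsg.Agent.Lib.Recog.RuRankThree.Search
import Cfsg.Agent.Lib.Recog.RuRankThree.Thirteen
import Cfsg.Agent.Lib.Recog.RuRankThree.SubChecks

/-!
# The orbital graph of a rank three group on 4060 points over the 1755 points is the model graph

The counting gives 730 and 780 common neighbours, so a clique of 28 points is met twelve times by every other point;
the neighbours in common with a far point then form one of the 2304 sets, and the sets determine the whole graph.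
-/

set_option autoImplicit false
set_option maxRecDepth 10000
set_option linter.unusedSectionVars false

namespace CfsgLib.Recog.RuRankThree

open MulAction
open scoped Pointwise
open CfsgLib.Sporadic (forallLt_elim countLt countLt_eq)

theorem testBit_selM (k i : ℕ) : (selM k).testBit i =
    ((k.testBit 0 && m10.testBit i) || ((k.testBit 1 && m80.testBit i) ||
      ((k.testBit 2 && m640.testBit i) || (k.testBit 3 && m1024.testBit i)))) := by
  show (_ ||| (_ ||| (_ ||| _)) : ℕ).testBit i = _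
  rw [Nat.testBit_or, Nat.testBit_or, Nat.testBit_or, bt_eq, bt_eq, bt_eq, bt_eq]
  cases k.testBit 0 <;> cases k.testBit 1 <;> cases k.testBit 2 <;> cases k.testBit 3 <;> simp

theorem selM_zero (k : ℕ) : (selM k).testBit 0 = false := by
  have h := sub_sums.2
  rw [bt_eq, testBit_selM, show (15 : ℕ).testBit 0 = true from rfl, show (15 : ℕ).testBit 1 = true from rfl,
    show (15 : ℕ).testBit 2 = true from rfl, show (15 : ℕ).testBit 3 = true from rfl] at h
  simp only [Bool.true_and, Bool.or_eq_false_iff] at h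
  rw [testBit_selM, h.1, h.2.1, h.2.2.1, h.2.2.2]
  simp

theorem card_selM {k : ℕ} (hk : k < 16) :
    (Finset.univ.filter fun y : Fin 1755 => (selM k).testBit y.val = true).card =
      [0, 10, 80, 90, 640, 650, 720, 730, 1024, 1034, 1104, 1114, 1664, 1674, 1744, 1754].getD k 0 := by
  rw [← sub_sums.1, List.getD_eq_getElem _ _ (by simpa using hk), List.getElem_map, List.getElem_range, countLt_eq]
  refine Finset.card_bij (fun y _ => y.val) ?_ ?_ ?_
  · intro y hy
    rw [Finset.mem_filter] at hy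
    rw [Finset.mem_filter, Finset.mem_range, bt_eq]
    exact ⟨y.isLt, hy.2⟩
  · intro y _ z _ h
    exact Fin.ext h
  · intro z hz
    rw [Finset.mem_filter, Finset.mem_range, bt_eq] at hz
    exact ⟨⟨z, hz.1⟩, by rw [Finset.mem_filter]; exact ⟨Finset.mem_univ _, hz.2⟩, rfl⟩

/-- A relation to the first point kept by its stabiliser is a union of suborbits. -/
theorem sub_choice (P : Fin 1755 → Prop) (h0 : ¬ P 0)
    (hinv : ∀ g ∈ Lgrp, g 0 = 0 → ∀ y, P (g y) ↔ P y) :
    ∃ k < 16, ∀ y, P y ↔ (selM k).testBit y.val = true := by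
  classical
  have hP : ∀ {n : ℕ} {O N Q : ℕ → ℕ} {m : ℕ}, subOK n O N Q m = true → ∀ y : Fin 1755,
      m.testBit y.val = true → (P y ↔ P (ptAt (O 0))) := by
    intro n O N Q m h y hy
    obtain ⟨g, hg, hg0, rfl⟩ := sub_trans h hy
    exact hinv g hg hg0 _
  have h10 := hP sub10_ok
  have h80 := hP sub80_ok
  have h640 := hP sub640_ok
  have h1024 := hP sub1024_ok
  have hk : ∀ p q r s : Bool, ∃ k < 16,
      Nat.testBit k 0 = p ∧ Nat.testBit k 1 = q ∧ Nat.testBit k 2 = r ∧ Nat.testBit k 3 = s := by decide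
  obtain ⟨k, hk16, k0, k1, k2, k3⟩ := hk (decide (P (ptAt (sub10Order.field 16 0))))
    (decide (P (ptAt (sub80Order.field 16 0)))) (decide (P (ptAt (sub640Order.field 16 0))))
    (decide (P (ptAt (sub1024Order.field 16 0))))
  refine ⟨k, hk16, fun y => ?_⟩
  rw [testBit_selM, k0, k1, k2, k3]
  simp only [Bool.or_eq_true, Bool.and_eq_true, decide_eq_true_eq]
  constructor
  · intro hy
    have hy0 : y.val ≠ 0 := fun e => h0 (by rwa [show y = 0 from Fin.ext e] at hy)
    have hc := congrArg (fun m => m.testBit y.val) (Nat.eq_of_beq_eq_true row_zero.2.1)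
    simp only [show ∀ u v : ℕ, Nat.lor u v = u ||| v from fun _ _ => rfl, Nat.testBit_or, row_zero_bit,
      testBit_fullM, y.isLt, decide_true, Bool.or_eq_true] at hc
    rcases hc with h | ⟨h | h | h⟩ | h
    · rw [show (1 : ℕ) = 2 ^ 0 from rfl, Nat.testBit_two_pow, decide_eq_true_eq] at h
      exact absurd h.symm hy0
    · exact Or.inl ⟨(h10 y h).1 hy, h⟩
    · exact Or.inr (Or.inl ⟨(h80 y h).1 hy, h⟩)
    · exact Or.inr (Or.inr (Or.inl ⟨(h640 y h).1 hy, h⟩))
    · exact Or.inr (Or.inr (Or.inr ⟨(h1024 y h).1 hy, h⟩))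
  · rintro (⟨hp, h⟩ | ⟨hp, h⟩ | ⟨hp, h⟩ | ⟨hp, h⟩)
    exacts [(h10 y h).2 hp, (h80 y h).2 hp, (h640 y h).2 hp, (h1024 y h).2 hp]

variable {Ω : Type*} [Fintype Ω] [DecidableEq Ω] (G : Subgroup (Equiv.Perm Ω))

/-- The orbital relation of a suborbit. -/
def OrbRel (a b x y : Ω) : Prop :=
  ∃ g : ↥G, g • a = x ∧ g⁻¹ • y ∈ orbit ↥(stabilizer ↥G a) b

variable {G}

theorem orbRel_iff {a b x y : Ω} {g : ↥G} (hg : g • a = x) :
    OrbRel G a b x y ↔ g⁻¹ • y ∈ orbit ↥(stabilizer ↥G a) b := by
  refine ⟨fun ⟨g', hg', h⟩ => ?_, fun h => ⟨g, hg, h⟩⟩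
  have hs : g⁻¹ * g' ∈ stabilizer ↥G a := by
    rw [mem_stabilizer_iff, mul_smul, hg', ← hg, inv_smul_smul]
  have := mem_orbit_of_mem_orbit (⟨g⁻¹ * g', hs⟩ : ↥(stabilizer ↥G a)) h
  rwa [Subgroup.mk_smul, mul_smul, smul_inv_smul] at this

theorem orbRel_smul {a b x y : Ω} (h : ↥G) [IsPretransitive ↥G Ω] :
    OrbRel G a b (h • x) (h • y) ↔ OrbRel G a b x y := by
  obtain ⟨g, hg⟩ := exists_smul_eq (↥G) a x
  rw [orbRel_iff hg, orbRel_iff (g := h * g) (by rw [mul_smul, hg])]
  rw [mul_inv_rev, mul_smul, inv_smul_smul]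

variable [IsPretransitive ↥G Ω]

/-- The graph is the model graph. -/
theorem labelling (hΩ : Fintype.card Ω = 4060) (a : Ω) (ψ : ↥(stabilizer ↥G a) ≃* ↥Lgrp) (b c : Ω)
    (hb : (orbit ↥(stabilizer ↥G a) b).ncard = 1755) (hc : (orbit ↥(stabilizer ↥G a) c).ncard = 2304) :
    ∃ χ : Ω ≃ Pt, ∀ (g : ↥G) (x y : Ω), madj (χ (g • x)) (χ (g • y)) ↔ madj (χ x) (χ y) := by
  classical
  set S := stabilizer ↥G a with hSdef
  have hS : Nat.card ↥S = 35942400 := by rw [Nat.card_congr ψ.toEquiv, card_Lgrp]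
  have horb_a : orbit ↥S a = {a} := by
    ext z
    refine ⟨?_, fun h => ?_⟩
    · rintro ⟨s, rfl⟩; exact s.2
    · rw [Set.mem_singleton_iff.1 h]; exact mem_orbit_self a
  have hne : ∀ {u v : Ω}, (orbit ↥S u).ncard ≠ (orbit ↥S v).ncard → Disjoint (orbit ↥S u) (orbit ↥S v) := by
    intro u v h
    rw [Set.disjoint_left]
    intro z hu hv
    exact h (congrArg Set.ncard ((orbit_eq_iff.2 hu).symm.trans (orbit_eq_iff.2 hv)))
  have hab : a ∉ orbit ↥S b := fun h => by
    rw [← orbit_eq_iff.2 h, horb_a, Set.ncard_singleton] at hb; omega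
  have hac : a ∉ orbit ↥S c := fun h => by
    rw [← orbit_eq_iff.2 h, horb_a, Set.ncard_singleton] at hc; omega
  have hbc : Disjoint (orbit ↥S b) (orbit ↥S c) := hne (by omega)
  have hcover : ∀ z, z = a ∨ z ∈ orbit ↥S b ∨ z ∈ orbit ↥S c := by
    have h : insert a (orbit ↥S b ∪ orbit ↥S c) = Set.univ := by
      refine Set.eq_of_subset_of_ncard_le (Set.subset_univ _) ?_
      rw [Set.ncard_univ, Nat.card_eq_fintype_card, hΩ,
        Set.ncard_insert_of_notMem (by simp [hab, hac]), Set.ncard_union_eq hbc, hb, hc]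
    intro z
    have hz : z ∈ insert a (orbit ↥S b ∪ orbit ↥S c) := h ▸ Set.mem_univ z
    simpa using hz
  -- the suborbit is self-paired
  have hpair : ∀ g : ↥G, g • a = b → g⁻¹ • a ∈ orbit ↥S b := by
    intro g hg
    have hst : Nat.card ↥(stabilizer ↥S (g⁻¹ • a)) = Nat.card ↥(stabilizer ↥S b) := by
      refine Nat.card_congr
        { toFun := fun s => ⟨⟨g * s.1.1 * g⁻¹, ?_⟩, ?_⟩
          invFun := fun s => ⟨⟨g⁻¹ * s.1.1 * g, ?_⟩, ?_⟩
          left_inv := fun s => Subtype.ext (Subtype.ext (by group))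
          right_inv := fun s => Subtype.ext (Subtype.ext (by group)) }
      · have h2 : s.1.1 • (g⁻¹ • a) = g⁻¹ • a := s.2
        show (g * s.1.1 * g⁻¹) • a = a
        rw [mul_smul, mul_smul, h2, smul_inv_smul]
      · show (g * s.1.1 * g⁻¹) • b = b
        rw [← hg, mul_smul, mul_smul, inv_smul_smul, show s.1.1 • a = a from s.1.2]
      · have h2 : s.1.1 • b = b := s.2
        show (g⁻¹ * s.1.1 * g) • a = a
        rw [mul_smul, mul_smul, hg, h2, ← hg, inv_smul_smul]
      · show (g⁻¹ * s.1.1 * g) • (g⁻¹ • a) = g⁻¹ • a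
        rw [mul_smul, mul_smul, smul_inv_smul, show s.1.1 • a = a from s.1.2]
    have h1 := (stabilizer ↥S (g⁻¹ • a)).card_mul_index
    rw [index_stabilizer, hst] at h1
    have h2 := (stabilizer ↥S b).card_mul_index
    rw [index_stabilizer] at h2
    have hcd : (orbit ↥S (g⁻¹ • a)).ncard = 1755 := by
      rw [← hb]
      exact Nat.eq_of_mul_eq_mul_left Nat.card_pos (h1.trans h2.symm)
    rcases hcover (g⁻¹ • a) with h | h | h
    · rw [h, horb_a, Set.ncard_singleton] at hcd; omega
    · exact h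
    · rw [orbit_eq_iff.2 h, hc] at hcd; omega
  let Γ : SimpleGraph Ω :=
    { Adj := OrbRel G a b
      symm := ⟨fun x y h => by
        obtain ⟨g, hg, s, hs⟩ := h
        obtain ⟨g₀, hg₀⟩ := exists_smul_eq (↥G) a b
        have hy : (g * s.1 * g₀) • a = y := by
          have hs' : s.1 • b = g⁻¹ • y := hs
          rw [mul_smul, mul_smul, hg₀, hs', smul_inv_smul]
        refine (orbRel_iff hy).2 ?_
        rw [← hg, mul_inv_rev, mul_inv_rev, mul_smul, mul_smul, inv_smul_smul,
          show s.1⁻¹ • a = a from inv_smul_eq_iff.2 (show s.1 • a = a from s.2).symm]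
        exact hpair g₀ hg₀⟩
      loopless := ⟨fun x h => by
        obtain ⟨g, hg, h'⟩ := h
        rw [← hg, inv_smul_smul] at h'
        exact hab h'⟩ }
  have hinv : ∀ (g : ↥G) (x y : Ω), Γ.Adj (g • x) (g • y) ↔ Γ.Adj x y := fun g x y => orbRel_smul g
  have hirr : ∀ x, ¬ Γ.Adj x x := fun x => Γ.loopless.irrefl x
  have hadj_a : ∀ y, Γ.Adj a y ↔ y ∈ orbit ↥S b := fun y => by
    show OrbRel G a b a y ↔ _
    rw [orbRel_iff (one_smul _ a), inv_one, one_smul]
  have hsinv : ∀ (s : ↥S) (u z : Ω), Γ.Adj (s • u) (s • z) ↔ Γ.Adj u z := fun s u z => hinv s.1 u z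
  -- the labelling of the neighbours
  let _ : MulAction ↥Lgrp (orbit ↥S b) := MulAction.compHom _ ψ.symm.toMonoidHom
  have _htr : IsPretransitive ↥Lgrp (orbit ↥S b) := ⟨fun u v => by
    obtain ⟨s, hs⟩ := exists_smul_eq (↥S) u v
    refine ⟨ψ s, ?_⟩
    show ψ.symm (ψ s) • u = v
    rw [ψ.symm_apply_apply, hs]⟩
  obtain ⟨φ, hφ⟩ := exists_labelling (X := orbit ↥S b) (by rw [Nat.card_coe_set_eq, hb])
  let e : Fin 1755 → Ω := fun x => (φ.symm x).1
  have he_mem : ∀ x, e x ∈ orbit ↥S b := fun x => (φ.symm x).2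
  have he_inj : Function.Injective e := fun x y h => φ.symm.injective (Subtype.ext h)
  have he_adj : ∀ x, Γ.Adj a (e x) := fun x => (hadj_a _).2 (he_mem x)
  have he_eq : ∀ (s : ↥S) (x : Fin 1755), s • e x = e ((ψ s : Equiv.Perm (Fin 1755)) x) := by
    intro s x
    have h1 := hφ (ψ s) (φ.symm x)
    rw [Equiv.apply_symm_apply] at h1
    show s • e x = (φ.symm _).1
    rw [← h1, Equiv.symm_apply_apply]
    show s • (φ.symm x).1 = ((ψ.symm (ψ s)) • φ.symm x).1
    rw [ψ.symm_apply_apply]
    rfl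
  -- counting over the three orbits
  let C : Finset Ω := (orbit ↥S c).toFinset
  have hC : ∀ z, z ∈ C ↔ z ∈ orbit ↥S c := fun z => Set.mem_toFinset
  have hCcard : C.card = 2304 := by rw [← Set.ncard_eq_toFinset_card', hc]
  have hnotC : ∀ z ∈ C, ¬ Γ.Adj a z := fun z hz h => Set.disjoint_left.1 hbc ((hadj_a z).1 h) ((hC z).1 hz)
  have hsplit : ∀ (p : Ω → Prop) [DecidablePred p], (Finset.univ.filter p).card =
      (if p a then 1 else 0) + (Finset.univ.filter fun x => p (e x)).card + (C.filter p).card := by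
    intro p _
    have hu : (Finset.univ : Finset Ω) = insert a (Finset.univ.image e ∪ C) := by
      ext z
      simp only [Finset.mem_univ, Finset.mem_insert, Finset.mem_union, Finset.mem_image, true_and, hC, true_iff]
      rcases hcover z with h | h | h
      exacts [Or.inl h, Or.inr (Or.inl ⟨φ ⟨z, h⟩, by simp [e]⟩), Or.inr (Or.inr h)]
    have hd : Disjoint (Finset.univ.image e) C := by
      rw [Finset.disjoint_left]
      intro z hz hz'
      obtain ⟨x, -, rfl⟩ := Finset.mem_image.1 hz
      exact Set.disjoint_left.1 hbc (he_mem x) ((hC _).1 hz')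
    simp only [Finset.card_filter]
    rw [hu, Finset.sum_insert, Finset.sum_union hd, Finset.sum_image he_inj.injOn, add_assoc]
    simp only [Finset.mem_union, Finset.mem_image, hC]
    rintro (⟨x, -, hx⟩ | h)
    exacts [hab (hx ▸ he_mem x), hac h]
  have hcount : ∀ (g : ↥G) (p : Ω → Prop) [DecidablePred p],
      (Finset.univ.filter p).card = (Finset.univ.filter fun z => p (g • z)).card := fun g p _ =>
    (Finset.card_equiv (MulAction.toPerm g) (fun z => by simp)).symm
  have hdeg : ∀ x, (Finset.univ.filter fun z => Γ.Adj x z).card = 1755 := by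
    intro x
    obtain ⟨g, hg⟩ := exists_smul_eq (↥G) a x
    rw [hcount g]
    simp only [← hg, hinv]
    rw [hsplit, if_neg (hirr a), Finset.filter_true_of_mem (fun y _ => he_adj y),
      Finset.filter_false_of_mem (fun z hz => hnotC z hz)]
    simp
  -- the common neighbours of `a` and a far point
  let B : Ω → Finset (Fin 1755) := fun z => Finset.univ.filter fun x => Γ.Adj z (e x)
  have hB_mem : ∀ z x, x ∈ B z ↔ Γ.Adj z (e x) := fun z x => by simp [B]
  have hB_eq : ∀ (s : ↥S) (z : Ω), B (s • z) = (ψ s : Equiv.Perm (Fin 1755)) • B z := by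
    intro s z
    ext x
    rw [← Finset.inv_smul_mem_iff, hB_mem, hB_mem, Equiv.Perm.smul_def, ← hsinv s z (e _), he_eq]
    simp
  have hB_card : ∀ z ∈ C, (B z).card = (B c).card := by
    intro z hz
    obtain ⟨s, rfl⟩ := (hC z).1 hz
    rw [hB_eq, Finset.card_smul_finset]
  let lam : ℕ := (Finset.univ.filter fun y => Γ.Adj (e 0) (e y)).card
  have hAinv : ∀ g ∈ Lgrp, ∀ x y, Γ.Adj (e (g x)) (e (g y)) ↔ Γ.Adj (e x) (e y) := by
    intro g hg x y
    have hh : ∀ x, ψ.symm ⟨g, hg⟩ • e x = e (g x) := fun x => by rw [he_eq, ψ.apply_symm_apply]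
    rw [← hh, ← hh, hsinv]
  have hlamx : ∀ x, (Finset.univ.filter fun y => Γ.Adj (e x) (e y)).card = lam := by
    intro x
    obtain ⟨g, hg, rfl⟩ := exists_move x
    symm
    refine Finset.card_equiv g fun y => ?_
    simp [hAinv g hg]
  have hout : ∀ x, 1 + lam + (C.filter fun z => Γ.Adj (e x) z).card = 1755 := by
    intro x
    have h := hdeg (e x)
    rw [hsplit, if_pos (he_adj x).symm, hlamx] at h
    exact h
  have hedge : 1755 * (1754 - lam) = 2304 * (B c).card ∧ lam ≤ 1754 := by
    have h := Finset.sum_card_bipartiteAbove_eq_sum_card_bipartiteBelow (fun x z => Γ.Adj (e x) z)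
      (s := (Finset.univ : Finset (Fin 1755))) (t := C)
    have hL : ∀ x ∈ (Finset.univ : Finset (Fin 1755)),
        (Finset.bipartiteAbove (fun x z => Γ.Adj (e x) z) C x).card = 1754 - lam := fun x _ => by
      have := hout x
      simp only [Finset.bipartiteAbove]
      omega
    have hR : ∀ z ∈ C, (Finset.bipartiteBelow (fun x z => Γ.Adj (e x) z) Finset.univ z).card = (B c).card :=
      fun z hz => by
        rw [← hB_card z hz]
        simp only [Finset.bipartiteBelow, B, Γ.adj_comm]
    rw [Finset.sum_congr rfl hL, Finset.sum_congr rfl hR, Finset.sum_const, Finset.sum_const, hCcard,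
      Finset.card_univ, Fintype.card_fin, smul_eq_mul, smul_eq_mul] at h
    exact ⟨h, by have := hout 0; omega⟩
  have hlam' : ∀ u v, Γ.Adj u v → (Finset.univ.filter fun z => Γ.Adj u z ∧ Γ.Adj v z).card = lam := by
    intro u v huv
    obtain ⟨g, rfl⟩ := exists_smul_eq (↥G) a u
    obtain ⟨w, rfl⟩ : ∃ w, g • w = v := ⟨g⁻¹ • v, smul_inv_smul g v⟩
    rw [hinv] at huv
    obtain ⟨x, rfl⟩ : ∃ x, e x = w := ⟨φ ⟨w, (hadj_a w).1 huv⟩, by simp [e]⟩
    rw [hcount g]
    simp only [hinv]
    rw [hsplit, if_neg (fun h => hirr a h.1), Finset.filter_false_of_mem (fun z hz h => hnotC z hz h.1)]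
    rw [← hlamx x]
    simp [he_adj]
  obtain ⟨k, hk, hPk⟩ := sub_choice (fun y => Γ.Adj (e 0) (e y)) (hirr _) fun g hg hg0 y => by
    conv_lhs => rw [← hg0]
    exact hAinv g hg 0 y
  have hlamk : lam = [0, 10, 80, 90, 640, 650, 720, 730, 1024, 1034, 1104, 1114, 1664, 1674, 1744, 1754].getD k 0 := by
    rw [← card_selM hk]
    exact congrArg Finset.card (Finset.filter_congr fun y _ => hPk y)
  have hk7 : k = 7 := by
    have h1 := hedge.1
    interval_cases k <;> simp at hlamk <;> rw [hlamk] at h1 <;> try omega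
    -- the neighbours would form blocks of 1756 points
    exfalso
    have hμ : (B c).card = 0 := by omega
    have htr : ∀ u v w, Γ.Adj u v → Γ.Adj u w → v ≠ w → Γ.Adj v w := by
      intro u v w huv huw hvw
      have hsub : (Finset.univ.filter fun z => Γ.Adj u z ∧ Γ.Adj v z) ⊆
          (Finset.univ.filter fun z => Γ.Adj u z).erase v := by
        intro z hz
        simp only [Finset.mem_filter, Finset.mem_erase, Finset.mem_univ, true_and] at hz ⊢
        exact ⟨fun h => hirr v (h ▸ hz.2), hz.1⟩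
      have heq := Finset.eq_of_subset_of_card_le hsub (by
        rw [hlam' u v huv, Finset.card_erase_of_mem (by simp [huv]), hdeg, hlamk])
      have hw : w ∈ (Finset.univ.filter fun z => Γ.Adj u z).erase v := by simp [huw, Ne.symm hvw]
      rw [← heq, Finset.mem_filter] at hw
      exact hw.2.2
    have hclosed : ∀ z ∈ C, ∀ u, Γ.Adj z u → u ∈ C := by
      intro z hz u hu
      rcases hcover u with h | h | h
      · exact absurd (h ▸ hu : Γ.Adj z a).symm (hnotC z hz)
      · obtain ⟨x, rfl⟩ : ∃ x, e x = u := ⟨φ ⟨u, h⟩, by simp [e]⟩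
        have := hB_card z hz
        rw [hμ, Finset.card_eq_zero] at this
        exact absurd ((hB_mem z x).2 hu) (by rw [this]; simp)
      · exact (hC u).2 h
    let N : Ω → Finset Ω := fun z => insert z (Finset.univ.filter fun u => Γ.Adj z u)
    have hN : ∀ z, (N z).card = 1756 := fun z => by
      rw [Finset.card_insert_of_notMem (by simp), hdeg]
    have hNC : ∀ z ∈ C, N z ⊆ C := by
      intro z hz u hu
      simp only [N, Finset.mem_insert, Finset.mem_filter, Finset.mem_univ, true_and] at hu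
      rcases hu with rfl | hu
      exacts [hz, hclosed z hz u hu]
    have hcC : c ∈ C := (hC c).2 (mem_orbit_self c)
    obtain ⟨w, hw, hwn⟩ := Finset.exists_mem_notMem_of_card_lt_card (s := N c) (t := C) (by rw [hN, hCcard]; omega)
    have hd : Disjoint (N c) (N w) := by
      rw [Finset.disjoint_left]
      intro u h1 h2
      simp only [N, Finset.mem_insert, Finset.mem_filter, Finset.mem_univ, true_and, not_or] at h1 h2 hwn
      rcases h1 with rfl | h1 <;> rcases h2 with rfl | h2
      · exact hwn.1 rfl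
      · exact hwn.2 h2.symm
      · exact hwn.2 h1
      · exact hwn.2 (htr u c w h1.symm h2.symm (Ne.symm hwn.1))
    have := Finset.card_le_card (Finset.union_subset (hNC c hcC) (hNC w hw))
    rw [Finset.card_union_of_disjoint hd, hN, hN, hCcard] at this
    omega
  subst hk7
  have hlam730 : lam = 730 := by simpa using hlamk
  have hμ : ∀ z ∈ C, (B z).card = 780 := fun z hz => by
    rw [hB_card z hz]
    have := hedge.1
    rw [hlam730] at this
    omega
  have hA : ∀ x y, Γ.Adj (e x) (e y) ↔ aadj x y := by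
    intro x y
    obtain ⟨g, hg, rfl⟩ := exists_move x
    obtain ⟨z, rfl⟩ := g.surjective y
    rw [hAinv g hg, aadj_smul hg, aadj_iff, hPk z, testBit_selM, show ((0 : Fin 1755)).val = 0 from rfl,
      row_zero_bit, show (7 : ℕ).testBit 0 = true from rfl, show (7 : ℕ).testBit 1 = true from rfl,
      show (7 : ℕ).testBit 2 = true from rfl, show (7 : ℕ).testBit 3 = false from rfl]
    simp
  -- cliques and lines
  have hB_clique : ∀ z ∈ C, ∀ j < 72, (cliqueS j ∩ B z).card = 12 := by
    intro z hz j hj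
    let K : Finset Ω := insert a ((cliqueS j).image e)
    have ha : a ∉ (cliqueS j).image e := fun h => by
      obtain ⟨x, -, hx⟩ := Finset.mem_image.1 h
      exact hirr a (hx ▸ he_adj x)
    have hz' := hnotC z hz
    have h2 := clique_meets Γ.Adj hΩ hirr hdeg (fun u v h => (hlam' u v h).trans hlam730) K
      (by rw [Finset.card_insert_of_notMem ha, Finset.card_image_of_injective _ he_inj, cliqueS_card hj]) ?_ z ?_
    · rw [← h2, Finset.filter_insert, if_neg hz', Finset.filter_image, Finset.card_image_of_injective _ he_inj]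
      congr 1
      ext x
      simp [hB_mem, Γ.adj_comm z]
    · intro u hu v hv huv
      simp only [K, Finset.mem_insert, Finset.mem_image] at hu hv
      rcases hu with rfl | ⟨x, hx, rfl⟩ <;> rcases hv with rfl | ⟨y, hy, rfl⟩
      · exact absurd rfl huv
      · exact he_adj y
      · exact (he_adj x).symm
      · exact (hA x y).2 ((clique_facts hj).2.2.2 x hx y hy fun h => huv (h ▸ rfl))
    · simp only [K, Finset.mem_insert, Finset.mem_image, not_or, not_exists, not_and]
      refine ⟨fun h => hac ((hC a).1 (h ▸ hz)), fun x _ h => hz' ?_⟩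
      rw [← h]
      exact he_adj x
  have hB_dvd : ∀ z ∈ C, 2925 ∣ 2304 * lineCount (B z) := by
    have hconst : ∀ z ∈ C, lineCount (B z) = lineCount (B c) := by
      intro z hz
      obtain ⟨s, rfl⟩ := (hC z).1 hz
      rw [hB_eq, lineCount_smul (ψ s).2]
    have h := Finset.sum_card_bipartiteAbove_eq_sum_card_bipartiteBelow (fun ℓ z => ℓ ⊆ B z) (s := Lines) (t := C)
    simp only [Finset.bipartiteAbove, Finset.bipartiteBelow] at h
    obtain ⟨ℓ₀, hℓ₀⟩ := Finset.card_pos.1 (show 0 < Lines.card by rw [card_Lines]; norm_num)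
    have hcl : ∀ ℓ ∈ Lines, (C.filter fun z => ℓ ⊆ B z).card = (C.filter fun z => ℓ₀ ⊆ B z).card := by
      intro ℓ hℓ
      obtain ⟨g, hg, rfl⟩ := Lines_trans hℓ hℓ₀
      refine Finset.card_equiv (MulAction.toPerm (ψ.symm ⟨g, hg⟩)) fun z => ?_
      simp only [Finset.mem_filter, MulAction.toPerm_apply, hC, hB_eq, ψ.apply_symm_apply,
        Finset.smul_finset_subset_smul_finset_iff, mem_orbit_iff]
      refine and_congr_left' ⟨fun ⟨s, hs⟩ => ⟨ψ.symm ⟨g, hg⟩ * s, by rw [mul_smul, hs]⟩,
        fun ⟨s, hs⟩ => ⟨(ψ.symm ⟨g, hg⟩)⁻¹ * s, by rw [mul_smul, hs, inv_smul_smul]⟩⟩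
    rw [Finset.sum_congr rfl hcl, Finset.sum_const, card_Lines, smul_eq_mul,
      Finset.sum_congr rfl (g := fun _ => lineCount (B c))
        (fun z hz => Eq.trans (by simp only [lineCount]) (hconst z hz)), Finset.sum_const, hCcard,
      smul_eq_mul] at h
    exact fun z hz => ⟨_, by rw [hconst z hz, ← h]⟩
  -- a far point giving a set of the family
  obtain ⟨c', hc', i₀, hi₀, hBc'⟩ : ∃ c' ∈ C, ∃ i < 2304, B c' = famS i := by
    have hst : Nat.card ↥(stabilizer ↥S c) = 15600 := by
      have := (stabilizer ↥S c).card_mul_index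
      rw [index_stabilizer, hc, hS] at this
      omega
    obtain ⟨h, ⟨q1, hq1, e1⟩, ⟨q2, hq2, e2⟩⟩ := exists_conj (M := (stabilizer ↥S c).map ψ.toMonoidHom)
      (by rw [Subgroup.card_map_of_injective ψ.injective, hst])
    have hfix : ∀ (g : ↥Lgrp) (q : ↥S), q • c = c → ψ q = h⁻¹ * g * h →
        (g : Equiv.Perm (Fin 1755)) • B (ψ.symm h • c) = B (ψ.symm h • c) := by
      intro g q hq hqg
      have h1 := hB_eq q c
      rw [hq, hqg] at h1
      rw [hB_eq, ψ.apply_symm_apply]
      conv_rhs => rw [h1]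
      simp [mul_smul]
    have hc'' : ψ.symm h • c ∈ C := (hC _).2 (mem_orbit _ _)
    exact ⟨_, hc'', candidates (hfix tEl q1 hq1 e1) (hfix nEl q2 hq2 e2) (hB_clique _ hc'') (hμ _ hc'')
      (hB_dvd _ hc'')⟩
  have hfam : ∀ j : Fin 2304, ∃ z ∈ C, B z = famS j.val := by
    intro j
    obtain ⟨g, hg, hge⟩ := fam_move j.isLt
    obtain ⟨g', hg', hge'⟩ := fam_move hi₀
    refine ⟨ψ.symm ⟨g * g'⁻¹, mul_mem hg (inv_mem hg')⟩ • c',
      (hC _).2 (mem_orbit_of_mem_orbit _ ((hC _).1 hc')), ?_⟩
    rw [hB_eq, ψ.apply_symm_apply, hBc', ← hge, ← hge', mul_smul, inv_smul_smul]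
  choose F hF_mem hF using hfam
  have hFinj : Function.Injective F := fun i j h => Fin.ext (famS_inj i.isLt j.isLt (by rw [← hF, ← hF, h]))
  have hFimg : Finset.univ.image F = C := by
    refine Finset.eq_of_subset_of_card_le (fun z hz => ?_) ?_
    · obtain ⟨i, -, rfl⟩ := Finset.mem_image.1 hz
      exact hF_mem i
    · rw [Finset.card_image_of_injective _ hFinj, hCcard, Finset.card_univ, Fintype.card_fin]
  have hCsum : ∀ (p : Ω → Prop) [DecidablePred p], (C.filter p).card = (Finset.univ.filter fun i => p (F i)).card := fun p _ => by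
    rw [← hFimg, Finset.filter_image, Finset.card_image_of_injective _ hFinj]
  -- the far points next to the first one
  have hnear : ∀ i, Γ.Adj (F 0) (F i) ↔ (famS i.val ∩ famS 0).card = 332 := by
    let J : Finset (Fin 2304) := Finset.univ.filter fun i => Γ.Adj (F 0) (F i)
    have hJ : J.card = 975 := by
      have h := hdeg (F 0)
      rw [hsplit, if_neg (fun h => hnotC _ (hF_mem 0) h.symm), hCsum] at h
      have hB0 := hμ _ (hF_mem 0)
      change 0 + (B (F 0)).card + J.card = 1755 at h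
      omega
    have hx : ∀ x ∈ famS 0, (J.filter fun i => x ∈ famS i.val).card +
        ((famS 0).filter fun y => aadj x y).card = 730 := by
      intro x hx
      have hxa : Γ.Adj (F 0) (e x) := (hB_mem _ x).1 (by rw [hF]; exact hx)
      have h := hlam' _ _ hxa
      rw [hlam730, hsplit, if_neg (fun h => hnotC _ (hF_mem 0) h.1.symm), hCsum, zero_add] at h
      have e1 : (famS 0).filter (fun y => aadj x y) =
          Finset.univ.filter fun y => Γ.Adj (F 0) (e y) ∧ Γ.Adj (e x) (e y) := by
        ext y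
        simp [hA, ← hB_mem, hF]
      have e2 : J.filter (fun i => x ∈ famS i.val) =
          Finset.univ.filter fun i => Γ.Adj (F 0) (F i) ∧ Γ.Adj (e x) (F i) := by
        ext i
        simp [J, ← hF, hB_mem, Γ.adj_comm (e x)]
      rw [e1, e2]
      omega
    have hsum : ∑ i ∈ J, (famS i.val ∩ famS 0).card = 323700 := by
      have h := Finset.sum_card_bipartiteAbove_eq_sum_card_bipartiteBelow
        (fun x i => x ∈ famS (Fin.val i)) (s := famS 0) (t := J)
      simp only [Finset.bipartiteAbove, Finset.bipartiteBelow] at h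
      have h2 : ∀ i ∈ J, (famS i.val ∩ famS 0).card = ((famS 0).filter fun x => x ∈ famS i.val).card :=
        fun i _ => by rw [Finset.inter_comm, Finset.filter_mem_eq_inter]
      rw [Finset.sum_congr rfl h2, ← h]
      have h3 := Finset.sum_congr rfl hx
      rw [Finset.sum_add_distrib, fam_edges, Finset.sum_const, famS_zero_card, smul_eq_mul] at h3
      omega
    have heach : ∀ i ∈ J, (famS i.val ∩ famS 0).card = 332 := by
      intro i hi
      have hle : ∀ j ∈ J, 332 ≤ (famS j.val ∩ famS 0).card := fun j _ => meet_facts.1 j.val j.isLt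
      exact ((Finset.sum_eq_sum_iff_of_le hle).1 (by rw [hsum, Finset.sum_const, hJ]; norm_num) i hi).symm
    have hJeq : J = Finset.univ.filter fun i : Fin 2304 => (famS i.val ∩ famS 0).card = 332 := by
      refine Finset.eq_of_subset_of_card_le (fun i hi => Finset.mem_filter.2 ⟨Finset.mem_univ _, heach i hi⟩) ?_
      rw [hJ, ← meet_facts.2]
      refine le_of_eq (Finset.card_bij (fun i _ => i.val) ?_ ?_ ?_)
      · intro i hi
        simpa [i.isLt] using hi
      · intro i _ j _ h
        exact Fin.ext h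
      · intro j hj
        rw [Finset.mem_filter, Finset.mem_range] at hj
        exact ⟨⟨j, hj.1⟩, by simpa using hj.2, rfl⟩
    intro i
    have := Finset.ext_iff.1 hJeq i
    simpa [J] using this
  have hfar : ∀ i j, Γ.Adj (F i) (F j) ↔ (famS i.val ∩ famS j.val).card = 332 := by
    intro i j
    obtain ⟨g, hg, hge⟩ := fam_move i.isLt
    let s : ↥S := ψ.symm ⟨g, hg⟩
    have hmove : ∀ z ∈ C, ∃ k : Fin 2304, F k = z := fun z hz => by
      rw [← hFimg] at hz
      obtain ⟨k, -, rfl⟩ := Finset.mem_image.1 hz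
      exact ⟨k, rfl⟩
    have hback : ∀ k, ∃ l, s • F l = F k := fun k => by
      obtain ⟨l, hl⟩ := hmove (s⁻¹ • F k) ((hC _).2 (mem_orbit_of_mem_orbit _ ((hC _).1 (hF_mem k))))
      exact ⟨l, by rw [hl, smul_inv_smul]⟩
    obtain ⟨l, hl⟩ := hback j
    obtain ⟨l₀, hl₀⟩ := hback i
    have hBs : ∀ z, B (s • z) = g • B z := fun z => by rw [hB_eq, ψ.apply_symm_apply]
    obtain rfl : l₀ = 0 := Fin.ext (famS_inj l₀.isLt (by norm_num) (smul_left_cancel g (by
      show g • famS l₀.val = g • famS 0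
      rw [← hF, ← hBs, hl₀, hF, hge])))
    rw [← hl, ← hl₀, hsinv, hnear, ← hF i, ← hF j, ← hl, ← hl₀, hBs, hBs, hF, hF, ← Finset.smul_finset_inter,
      Finset.card_smul_finset, Finset.inter_comm]
    rfl
  -- the map
  let ν : Pt → Ω := fun u => u.elim a (Sum.elim e F)
  have hνinj : Function.Injective ν := by
    have hae : ∀ x, a ≠ e x := fun x h => hab (h.symm ▸ he_mem x)
    have haF : ∀ i, a ≠ F i := fun i h => hac ((hC a).1 (h.symm ▸ hF_mem i))
    have heF : ∀ x i, e x ≠ F i := fun x i h =>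
      Set.disjoint_left.1 hbc (he_mem x) ((hC _).1 (h.symm ▸ hF_mem i))
    rintro (_ | (x | i)) (_ | (y | j)) h
    · rfl
    · exact absurd h (hae y)
    · exact absurd h (haF j)
    · exact absurd h.symm (hae x)
    · exact congrArg nearP (he_inj h)
    · exact absurd h (heF x j)
    · exact absurd h.symm (haF i)
    · exact absurd h.symm (heF y i)
    · exact congrArg farP (hFinj h)
  have hνadj : ∀ u v, Γ.Adj (ν u) (ν v) ↔ madj u v := by
    rintro (_ | (x | i)) (_ | (y | j))
    · exact iff_of_false (hirr a) not_false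
    · exact iff_of_true (he_adj y) trivial
    · exact iff_of_false (hnotC _ (hF_mem j)) not_false
    · exact iff_of_true (he_adj x).symm trivial
    · exact hA x y
    · show Γ.Adj (e x) (F j) ↔ x ∈ famS j.val
      rw [← hF, hB_mem, Γ.adj_comm]
    · exact iff_of_false (fun h => hnotC _ (hF_mem i) h.symm) not_false
    · show Γ.Adj (F i) (e y) ↔ y ∈ famS i.val
      rw [← hF, hB_mem]
    · exact hfar i j
  let E : Pt ≃ Ω := Equiv.ofBijective ν
    ((Fintype.bijective_iff_injective_and_card ν).2 ⟨hνinj, by rw [hΩ, card_Pt]⟩)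
  refine ⟨E.symm, fun g x y => ?_⟩
  rw [← hνadj, ← hνadj]
  show Γ.Adj (E (E.symm _)) (E (E.symm _)) ↔ Γ.Adj (E (E.symm _)) (E (E.symm _))
  rw [E.apply_symm_apply, E.apply_symm_apply, E.apply_symm_apply, E.apply_symm_apply, hinv]

end CfsgLib.Recog.RuRankThree
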