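import Cfsg.Agent.Lib.Recog.RuRankThree.Labelling

/-!
# A rank three group on 4060 points with the given stabiliser is the group of the model graph
-/

set_option autoImplicit false

namespace CfsgLib.Recog.RuRankThree

open MulAction

/-- A group on 4060 points with stabiliser the group on 1755 points and suborbits 1755 and 2304. -/
theorem equiv_modelAut {Ω : Type*} [Fintype Ω] [DecidableEq Ω] (hΩ : Fintype.card Ω = 4060)
    (G : Subgroup (Equiv.Perm Ω)) [IsPretransitive ↥G Ω] (a : Ω) (ψ : ↥(stabilizer ↥G a) ≃* ↥Lgrp) (b c : Ω)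
    (hb : (orbit ↥(stabilizer ↥G a) b).ncard = 1755) (hc : (orbit ↥(stabilizer ↥G a) c).ncard = 2304) :
    Nonempty (↥G ≃* ↥modelAut) := by
  obtain ⟨χ, hχ⟩ := labelling hΩ a ψ b c hb hc
  let θ : ↥G →* Equiv.Perm Pt :=
    MonoidHom.mk' (fun g => χ.permCongr (g : Equiv.Perm Ω)) fun g h => Equiv.ext fun x => by simp
  have hinj : Function.Injective θ := fun g h e => Subtype.ext (χ.permCongr.injective e)
  have hle : θ.range ≤ modelAut := by
    rintro _ ⟨g, rfl⟩ u v
    have h := hχ g (χ.symm u) (χ.symm v)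
    rw [χ.apply_symm_apply, χ.apply_symm_apply] at h
    exact h
  have hcard : Nat.card ↥θ.range = 4060 * 35942400 := by
    rw [← Nat.card_congr (MonoidHom.ofInjective hinj).toEquiv, ← (stabilizer ↥G a).card_mul_index,
      index_stabilizer_of_transitive, Nat.card_congr ψ.toEquiv, card_Lgrp, Nat.card_eq_fintype_card, hΩ,
      Nat.mul_comm]
  have heq : θ.range = modelAut := Subgroup.eq_of_le_of_card_ge hle (hcard ▸ card_modelAut_le)
  exact ⟨(MonoidHom.ofInjective hinj).trans (MulEquiv.subgroupCongr heq)⟩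

end CfsgLib.Recog.RuRankThree
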