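import Cfsg.Agent.Lib.Recog.RuRankThree.RuData
import Cfsg.Agent.Lib.Recog.RuRankThree.GraphChecks
import Cfsg.Agent.Lib.Recog.BitPerm.Basic
import Cfsg.Agent.Lib.Sporadic.RuOut.Points

/-!
# The checks comparing the neighbours of the first point of the Rudvalis group with the 1755 points
-/

set_option autoImplicit false
set_option maxRecDepth 100000
set_option Elab.async false

namespace CfsgLib.Recog.RuRankThree

open CfsgLib.Sporadic (forallLt)
open CfsgLib.Sporadic.RuMod (mm one g1)
open CfsgLib.Sporadic.RuOut (pimg bmask fullMask profMask)
open CfsgLib.Recog.BitPerm (run stageOK move)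

/-- The point of the Rudvalis group of one of the 1755 points. -/
noncomputable def nearN (x : ℕ) : ℕ := nearT.field 16 x

/-- The images are points and increase in the sorted order. -/
noncomputable def nearOK (x : ℕ) : Bool :=
  Nat.blt 0 (nearN x) && Nat.blt (nearN x) 4060 && Nat.blt (nearSrt.field 16 x) 1755 &&
    (Nat.beq (Nat.add x 1) 1755 || Nat.blt (nearN (nearSrt.field 16 x)) (nearN (nearSrt.field 16 (Nat.add x 1))))

theorem near_ok : forallLt 1755 nearOK = true := by decide +kernel

/-- The first point and the images. -/
noncomputable def nearMask : ℕ := Nat.rec 1 (fun x acc => Nat.lor acc (Nat.shiftLeft 1 (nearN x))) 1755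

theorem near_mask : Nat.beq nearMask (Nat.xor (bmask (pimg 0)) fullMask) = true := by decide +kernel

/-- Where a bit comes from under a network. -/
noncomputable def netMove (L : List (ℕ × ℕ)) (i : ℕ) : ℕ := L.foldr move i

theorem net_ok : nearNet.all (stageOK 12) = true ∧
    forallLt 1755 (fun y => Nat.beq (netMove nearNet y) (nearN y)) = true := by
  decide +kernel

/-- The points orthogonal to an image are the neighbours and the point itself. -/
noncomputable def rowRu (x : ℕ) : Bool :=
  Nat.beq (Nat.land (run nearNet (Nat.xor (bmask (pimg (nearN x))) fullMask)) fullM)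
    (Nat.lor (row x) (Nat.shiftLeft 1 x))

theorem rows_ru : forallLt 1755 rowRu = true := by decide +kernel

/-- A point of the spanning set. -/
noncomputable def spanP (k : ℕ) : ℕ := spanPts.getD k 0

theorem span_ok :
    forallLt 27 (fun k => (List.range 1755).any fun x => Nat.beq (nearN x) (spanP k)) = true ∧
    forallLt 28 (fun k => Nat.blt (spanP k) 4060) = true ∧
    spanPts.length = 28 ∧ Nat.beq (spanP 27) farPoint = true ∧
    forallLt 28 (fun k => forallLt 28 fun r =>
      bt spanMat (Nat.add (Nat.mul 28 r) k) == bt (pimg (spanP k)) (Nat.mul 28 r)) = true ∧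
    Nat.beq (mm spanMat spanInv) one = true := by
  decide +kernel

/-- The pairs fixed by an element fixing the first point and its neighbours. -/
noncomputable def spanPairs : List (ℕ × ℕ) :=
  (pimg 0, pimg 0) :: (List.range 27).map fun k => (pimg (spanP k), pimg (spanP k))

theorem far_ok : Nat.beq (profMask farPoint spanPairs) (Nat.shiftLeft 1 farPoint) = true ∧
    Nat.beq g1.base (pimg farPoint) = true ∧ Nat.blt 0 farPoint = true ∧
    bt (bmask (pimg 0)) farPoint = true := by
  decide +kernel

end CfsgLib.Recog.RuRankThree
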