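import Cfsg.Agent.Lib.Recog.RuRankThree.Recognise
import Cfsg.Agent.Lib.Recog.RuRankThree.RuChecks
import Cfsg.Agent.Lib.Sporadic.RuLink.Link

/-!
# The Rudvalis group is the group of the model graph
-/

set_option autoImplicit false
set_option maxRecDepth 10000

namespace CfsgLib.Recog.RuRankThree

open MulAction
open CfsgLib.Sporadic (forallLt forallLt_elim)
open CfsgLib.Sporadic.RuMod
open CfsgLib.Sporadic.RuOut
open CfsgLib.Recog.BitPerm (netPerm stagePerm_apply testBit_run stageOK move Stage)

theorem netPerm_eq {B : ℕ} : ∀ {L : List Stage}, (∀ st ∈ L, stageOK B st = true) → ∀ i,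
    netPerm L i = netMove L i
  | [], _, i => rfl
  | st :: L, h, i => by
    show CfsgLib.Recog.BitPerm.stagePerm st (netPerm L i) = move st (netMove L i)
    rw [netPerm_eq (fun s hs => h s (List.mem_cons_of_mem _ hs)), stagePerm_apply (h st List.mem_cons_self)]

theorem bz_testBit_inj {a b : Bool} (h : bz a = bz b) : a = b := bz_inj h

theorem fullMask_bit {i : ℕ} (hi : i < 4060) : fullMask.testBit i = true := by
  show (1 <<< 4060 - 1).testBit i = true
  rw [Nat.shiftLeft_eq, one_mul, Nat.testBit_two_pow_sub_one]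
  exact decide_eq_true hi

theorem orth_bit {v i : ℕ} (hi : i < 4060) :
    (Nat.xor (bmask v) fullMask).testBit i = true ↔ (bmask v).testBit i = false := by
  show (bmask v ^^^ fullMask).testBit i = true ↔ _
  rw [Nat.testBit_xor, fullMask_bit hi]
  cases (bmask v).testBit i <;> simp

/-- The products of an element of the group are kept. -/
theorem bmask_image {c : G28} (hc : c ∈ RG) {i i' j j' : ℕ} (hi : i < 4060) (hi' : i' < 4060)
    (h1 : (c : Mat) * pvec i = pvec i') (h2 : (c : Mat) * pvec j = pvec j') :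
    (bmask (pimg j')).testBit i' = (bmask (pimg j)).testBit i := by
  refine bz_testBit_inj ?_
  rw [testBit_bmask hi', testBit_bmask hi]
  show BQ (pvec i') (pvec j') = BQ (pvec i) (pvec j)
  rw [← h1, ← h2, BQ_invariant hc]

theorem level_inj {L : Level} (h : ∀ i < L.n, L.srtOK i = true) {i j : ℕ} (hi : i < L.n) (hj : j < L.n)
    (e : dec (L.img i) = dec (L.img j)) : i = j := by
  refine sorted_inj (val := L.img) (srt := L.srt.field 16) (fun k hk => ?_) (fun k hk => ?_) hi hj (img_inj e)
  · have := h k hk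
    simp only [Level.srtOK, Bool.and_eq_true, Nat.blt_eq] at this
    exact this.1
  · have := h k (by omega)
    simp only [Level.srtOK, Bool.and_eq_true, Bool.or_eq_true, Nat.blt_eq, Nat.beq_eq] at this
    exact this.2.resolve_left (show ¬ k + 1 = L.n by omega)

theorem g0_n : g0.n = 4060 := rfl

theorem g1_n : g1.n = 2304 := rfl

theorem pvec_inj {i j : ℕ} (hi : i < 4060) (hj : j < 4060) (h : pvec i = pvec j) : i = j :=
  level_inj (L := g0) (fun _ hk => forallLt_elim Valid.g0_srt hk) hi hj h

theorem pvec_zero : pvec 0 = dec g0.base := by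
  have h := Valid.g0_base
  simp only [Level.baseOK, Bool.and_eq_true, Nat.beq_eq] at h
  show dec (g0.img 0) = _
  rw [img_eq, h.1.1.1, dec_one, one_mul]

theorem RK_fix {c : G28} (hc : c ∈ RK) : (c : Mat) * pvec 0 = pvec 0 := by
  rw [pvec_zero]
  exact fix_base hc

theorem RG_move {i : ℕ} (hi : i < 4060) : ∃ r ∈ RG, (r : Mat) * pvec 0 = pvec i := by
  obtain ⟨hmem, -, hrep⟩ := chain_spec gChain gChain_ok
  obtain ⟨hmem1, -, -⟩ := chain_spec [g1, g2, g3, g4] gChain_ok.2
  obtain ⟨r, hr⟩ := hrep g0 List.mem_cons_self i hi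
  refine ⟨r, (hmem r).2 ⟨i, hi, 1, (hmem1 1).1 (one_mem _), by rw [hr, Units.val_one, mul_one]⟩, ?_⟩
  rw [pvec_zero, hr]
  exact img_eq.symm

/-! ### the action on the points -/

theorem exists_actFn (c : ↥RG) (i : Fin 4060) : ∃ j : Fin 4060, (c.1 : Mat) * pvec i.val = pvec j.val := by
  obtain ⟨j, hj, h⟩ := point_image c.2 i.isLt
  exact ⟨⟨j, hj⟩, h⟩

/-- The image of a point. -/
noncomputable def actFn (c : ↥RG) (i : Fin 4060) : Fin 4060 := (exists_actFn c i).choose

theorem actFn_spec (c : ↥RG) (i : Fin 4060) : (c.1 : Mat) * pvec i.val = pvec (actFn c i).val :=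
  (exists_actFn c i).choose_spec

theorem actFn_eq {c : ↥RG} {i j : Fin 4060} (h : (c.1 : Mat) * pvec i.val = pvec j.val) : actFn c i = j :=
  Fin.ext (pvec_inj (actFn c i).isLt j.isLt ((actFn_spec c i).symm.trans h))

/-- The action on the points. -/
noncomputable def actHom : ↥RG →* Equiv.Perm (Fin 4060) :=
  MonoidHom.mk'
    (fun c =>
      { toFun := actFn c
        invFun := actFn c⁻¹
        left_inv := fun i => actFn_eq (by
          rw [← actFn_spec c i, ← mul_assoc, Subgroup.coe_inv, Units.inv_mul, one_mul])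
        right_inv := fun i => actFn_eq (by
          rw [← actFn_spec c⁻¹ i, ← mul_assoc, Subgroup.coe_inv, Units.mul_inv, one_mul]) })
    (fun c d => Equiv.ext fun i => actFn_eq (by
      rw [Subgroup.coe_mul, Units.val_mul, mul_assoc, actFn_spec d i]
      exact actFn_spec c _))

theorem actHom_spec (c : ↥RG) (i : Fin 4060) : (c.1 : Mat) * pvec i.val = pvec (actHom c i).val :=
  actFn_spec c i

theorem actHom_eq {c : ↥RG} {i j : Fin 4060} (h : (c.1 : Mat) * pvec i.val = pvec j.val) : actHom c i = j :=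
  actFn_eq h

theorem actHom_injective : Function.Injective actHom := by
  have := simple_RG
  rcases (MonoidHom.normal_ker actHom).eq_bot_or_eq_top with h | h
  · exact (MonoidHom.ker_eq_bot_iff _).1 h
  · exfalso
    obtain ⟨r, hr, e⟩ := RG_move (show 1 < 4060 by norm_num)
    have h1 : actHom ⟨r, hr⟩ = 1 := MonoidHom.mem_ker.1 (h ▸ Subgroup.mem_top _)
    have h2 := actHom_eq (c := ⟨r, hr⟩) (i := ⟨0, by norm_num⟩) (j := ⟨1, by norm_num⟩) e
    rw [h1] at h2
    exact absurd (congrArg Fin.val h2) (show (0 : ℕ) ≠ 1 by norm_num)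

/-! ### the neighbours of the first point -/

theorem near_spec {x : ℕ} (hx : x < 1755) : 0 < nearN x ∧ nearN x < 4060 := by
  have h := forallLt_elim near_ok hx
  simp only [nearOK, Bool.and_eq_true, Nat.blt_eq] at h
  exact ⟨h.1.1.1, h.1.1.2⟩

theorem nearN_inj {x y : ℕ} (hx : x < 1755) (hy : y < 1755) (h : nearN x = nearN y) : x = y := by
  refine sorted_inj (val := nearN) (srt := nearSrt.field 16) (fun k hk => ?_) (fun k hk => ?_) hx hy h
  · have := forallLt_elim near_ok hk
    simp only [nearOK, Bool.and_eq_true, Nat.blt_eq] at this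
    exact this.1.2
  · have := forallLt_elim near_ok (show k < 1755 by omega)
    simp only [nearOK, Bool.and_eq_true, Bool.or_eq_true, Nat.blt_eq, Nat.beq_eq] at this
    exact this.2.resolve_left (show ¬ k + 1 = 1755 by omega)

theorem testBit_nearRec : ∀ n i : ℕ,
    (Nat.rec 1 (fun x acc => Nat.lor acc (Nat.shiftLeft 1 (nearN x))) n : ℕ).testBit i = true ↔
      i = 0 ∨ ∃ x < n, nearN x = i
  | 0, i => by
    show Nat.testBit (2 ^ 0) i = true ↔ _
    rw [Nat.testBit_two_pow, decide_eq_true_eq]
    simp [eq_comm]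
  | n + 1, i => by
    have ih := testBit_nearRec n i
    generalize hR : (Nat.rec 1 (fun x acc => Nat.lor acc (Nat.shiftLeft 1 (nearN x))) n : ℕ) = R at ih
    show (Nat.lor (Nat.rec 1 (fun x acc => Nat.lor acc (Nat.shiftLeft 1 (nearN x))) n)
      (Nat.shiftLeft 1 (nearN n))).testBit i = true ↔ _
    rw [hR, show Nat.lor R (Nat.shiftLeft 1 (nearN n)) = R ||| 1 <<< nearN n from rfl, Nat.testBit_or,
      Nat.shiftLeft_eq, one_mul, Nat.testBit_two_pow, Bool.or_eq_true, decide_eq_true_eq, ih]
    constructor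
    · rintro ((h | ⟨x, hx, h⟩) | h)
      exacts [Or.inl h, Or.inr ⟨x, by omega, h⟩, Or.inr ⟨n, by omega, h⟩]
    · rintro (h | ⟨x, hx, h⟩)
      · exact Or.inl (Or.inl h)
      · rcases Nat.lt_or_eq_of_le (Nat.le_of_lt_succ hx) with h' | rfl
        exacts [Or.inl (Or.inr ⟨x, h', h⟩), Or.inr h]

/-- The points orthogonal to the first point. -/
theorem orth_zero {i : ℕ} (hi : i < 4060) :
    (bmask (pimg 0)).testBit i = false ↔ i = 0 ∨ ∃ x < 1755, nearN x = i := by
  have h := testBit_nearRec 1755 i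
  rw [← orth_bit hi, ← Nat.eq_of_beq_eq_true near_mask]
  unfold nearMask
  exact h

/-- A point of the Rudvalis group among the neighbours. -/
noncomputable def nearPt (x : Fin 1755) : Fin 4060 := ⟨nearN x.val, (near_spec x.isLt).2⟩

theorem nearPt_inj : Function.Injective nearPt := fun x y h =>
  Fin.ext (nearN_inj x.isLt y.isLt (congrArg Fin.val h))

theorem exists_nearImage (c : ↥RK) (x : Fin 1755) :
    ∃ y : Fin 1755, actHom (Subgroup.inclusion RK_le c) (nearPt x) = nearPt y := by
  set i := actHom (Subgroup.inclusion RK_le c) (nearPt x) with hi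
  have h1 := actHom_spec (Subgroup.inclusion RK_le c) (nearPt x)
  have hb : (bmask (pimg 0)).testBit i.val = false := by
    rw [bmask_image (RK_le c.2) (nearPt x).isLt i.isLt h1 (RK_fix c.2)]
    exact (orth_zero (nearPt x).isLt).2 (Or.inr ⟨x.val, x.isLt, rfl⟩)
  rcases (orth_zero i.isLt).1 hb with h | ⟨y, hy, h⟩
  · exfalso
    have e : (c.1 : Mat) * pvec (nearPt x).val = (c.1 : Mat) * pvec 0 := by
      rw [RK_fix c.2, ← h]; exact h1
    have e' := congrArg (fun M => ((c.1⁻¹ : G28) : Mat) * M) e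
    simp only [← mul_assoc, Units.inv_mul, one_mul] at e'
    have := pvec_inj (nearPt x).isLt (by norm_num) e'
    have := (near_spec x.isLt).1
    simp only [nearPt] at *
    omega
  · exact ⟨⟨y, hy⟩, Fin.ext h.symm⟩

/-- The image of a neighbour. -/
noncomputable def nearFn (c : ↥RK) (x : Fin 1755) : Fin 1755 := (exists_nearImage c x).choose

theorem nearFn_spec (c : ↥RK) (x : Fin 1755) :
    actHom (Subgroup.inclusion RK_le c) (nearPt x) = nearPt (nearFn c x) := (exists_nearImage c x).choose_spec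

/-- The action on the neighbours. -/
noncomputable def nearHom : ↥RK →* Equiv.Perm (Fin 1755) :=
  MonoidHom.mk'
    (fun c =>
      { toFun := nearFn c
        invFun := nearFn c⁻¹
        left_inv := fun x => nearPt_inj (by
          rw [← nearFn_spec, ← nearFn_spec, map_inv, map_inv]
          simp)
        right_inv := fun x => nearPt_inj (by
          rw [← nearFn_spec, ← nearFn_spec, map_inv, map_inv]
          simp) })
    (fun c d => Equiv.ext fun x => nearPt_inj (by
      show nearPt (nearFn (c * d) x) = nearPt (nearFn c (nearFn d x))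
      rw [← nearFn_spec, ← nearFn_spec, ← nearFn_spec, map_mul, map_mul]
      rfl))

theorem nearHom_spec (c : ↥RK) (x : Fin 1755) :
    actHom (Subgroup.inclusion RK_le c) (nearPt x) = nearPt (nearHom c x) := nearFn_spec c x

theorem aadj_orth (x y : Fin 1755) :
    aadj x y ↔ (bmask (pimg (nearN x.val))).testBit (nearN y.val) = false ∧ x ≠ y := by
  have h := Nat.eq_of_beq_eq_true (forallLt_elim rows_ru x.isLt)
  have hb := congrArg (fun m => m.testBit y.val) h
  simp only [show ∀ u v : ℕ, Nat.land u v = u &&& v from fun _ _ => rfl,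
    show ∀ u v : ℕ, Nat.lor u v = u ||| v from fun _ _ => rfl, Nat.testBit_and, Nat.testBit_or,
    testBit_fullM, y.isLt, decide_true, Bool.and_true] at hb
  have hok : ∀ st ∈ nearNet, stageOK 12 st = true := List.all_eq_true.1 net_ok.1
  rw [testBit_run hok, netPerm_eq hok, Nat.eq_of_beq_eq_true (forallLt_elim net_ok.2 y.isLt),
    show Nat.shiftLeft 1 x.val = 2 ^ x.val from (Nat.shiftLeft_eq _ _).trans (one_mul _), Nat.testBit_two_pow] at hb
  rw [← orth_bit (near_spec y.isLt).2, hb, Bool.or_eq_true, decide_eq_true_eq, ← aadj_iff]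
  refine ⟨fun h => ⟨Or.inl h, fun e => aadj_irrefl y (e ▸ h)⟩, ?_⟩
  rintro ⟨h | h, hne⟩
  exacts [h, absurd (Fin.ext h) hne]

theorem nearHom_aut (c : ↥RK) : nearHom c ∈ autA := by
  intro x y
  rw [aadj_orth, aadj_orth]
  refine and_congr ?_ (not_congr ⟨fun h => (nearHom c).injective h, fun h => h ▸ rfl⟩)
  have hsp : ∀ z, (c.1 : Mat) * pvec (nearN z.val) = pvec (nearN (nearHom c z).val) := fun z => by
    have := actHom_spec (Subgroup.inclusion RK_le c) (nearPt z)
    rw [nearHom_spec] at this
    exact this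
  rw [bmask_image (RK_le c.2) (near_spec y.isLt).2 (near_spec (nearHom c y).isLt).2 (hsp y) (hsp x)]

theorem nearHom_injective : Function.Injective nearHom := by
  refine (injective_iff_map_eq_one _).2 fun c hc => ?_
  have hnear : ∀ x : Fin 1755, (c.1 : Mat) * pvec (nearN x.val) = pvec (nearN x.val) := fun x => by
    have := actHom_spec (Subgroup.inclusion RK_le c) (nearPt x)
    rw [nearHom_spec, hc] at this
    exact this
  obtain ⟨hin, hlt, -, hlast, hcol, hinv⟩ := span_ok
  have hfirst : ∀ k < 27, (c.1 : Mat) * pvec (spanP k) = pvec (spanP k) := by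
    intro k hk
    obtain ⟨x, hx, e⟩ := List.any_eq_true.1 (forallLt_elim hin hk)
    rw [← Nat.eq_of_beq_eq_true e]
    exact hnear ⟨x, List.mem_range.1 hx⟩
  have hfp : farPoint < 4060 := by
    rw [← Nat.eq_of_beq_eq_true hlast]; exact Nat.blt_eq.mp (forallLt_elim hlt (by norm_num))
  have hfar : (c.1 : Mat) * pvec farPoint = pvec farPoint := by
    obtain ⟨i, hi, e⟩ := point_image (RK_le c.2) hfp
    have hp : ∀ st ∈ spanPairs, (c.1 : Mat) * dec st.1 = dec st.2 := by
      intro st hst
      simp only [spanPairs, List.mem_cons, List.mem_map, List.mem_range] at hst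
      rcases hst with rfl | ⟨k, hk, rfl⟩
      exacts [RK_fix c.2, hfirst k hk]
    have hb := profMask_bit (RK_le c.2) hfp hi e spanPairs hp
    rw [Nat.eq_of_beq_eq_true far_ok.1,
      show Nat.shiftLeft 1 farPoint = 2 ^ farPoint from (Nat.shiftLeft_eq _ _).trans (one_mul _), Nat.testBit_two_pow,
      decide_eq_true_eq] at hb
    rw [e, hb]
  have hall : ∀ k < 28, (c.1 : Mat) * pvec (spanP k) = pvec (spanP k) := by
    intro k hk
    rcases Nat.lt_or_ge k 27 with h | h
    · exact hfirst k h
    · rw [show k = 27 by omega, Nat.eq_of_beq_eq_true hlast]; exact hfar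
  have hM : ∀ (r k : Fin 28), dec spanMat r k = pvec (spanP k.val) r 0 := fun r k => by
    have h := beq_iff_eq.1 (forallLt_elim (forallLt_elim hcol k.isLt) r.isLt)
    rw [bt_eq, bt_eq] at h
    show bz (spanMat.testBit _) = bz ((pimg (spanP k.val)).testBit (28 * r.val + (0 : Fin 28).val))
    rw [Fin.val_zero, Nat.add_zero]
    exact congrArg bz h
  have hcM : (c.1 : Mat) * dec spanMat = dec spanMat := by
    funext r k
    rw [hM r k, ← hall k.val k.isLt, Matrix.mul_apply, Matrix.mul_apply]
    refine Finset.sum_congr rfl fun j _ => ?_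
    rw [hM j k]
  refine Subtype.ext (Units.ext ?_)
  have := congrArg (fun M => M * dec spanInv) hcM
  simp only [mul_assoc, ← dec_mm, Nat.eq_of_beq_eq_true hinv, dec_one, mul_one] at this
  exact this

theorem nearHom_range : nearHom.range = Lgrp := by
  have hle : nearHom.range ≤ Lgrp := by
    rintro _ ⟨c, rfl⟩; exact autA_eq ▸ nearHom_aut c
  have hL : Nat.card ↥Lgrp = Nat.card ↥nearHom.range := by
    rw [card_Lgrp, ← Nat.card_congr (MonoidHom.ofInjective nearHom_injective).toEquiv, card_RK]
  have : Finite ↥Lgrp := Nat.finite_of_card_ne_zero (by rw [card_Lgrp]; norm_num)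
  exact Subgroup.eq_of_le_of_card_ge hle hL.le

/-! ### the rank three group -/

theorem actHom_zero (c : ↥RK) : actHom (Subgroup.inclusion RK_le c) 0 = 0 := actHom_eq (RK_fix c.2)

instance range_pretransitive : IsPretransitive ↥actHom.range (Fin 4060) := ⟨fun x y => by
  have key : ∀ z : Fin 4060, ∃ g : ↥RG, actHom g 0 = z := fun z => by
    obtain ⟨r, hr, e⟩ := RG_move z.isLt
    exact ⟨⟨r, hr⟩, actHom_eq e⟩
  obtain ⟨g, hg⟩ := key x
  obtain ⟨g', hg'⟩ := key y
  refine ⟨⟨actHom (g' * g⁻¹), _, rfl⟩, ?_⟩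
  show actHom (g' * g⁻¹) x = y
  rw [← hg, ← hg', map_mul, map_inv]
  simp⟩

/-- The stabiliser of the first point. -/
noncomputable def stabHom : ↥RK →* ↥(stabilizer ↥actHom.range (0 : Fin 4060)) :=
  MonoidHom.mk' (fun c => ⟨⟨actHom (Subgroup.inclusion RK_le c), _, rfl⟩, actHom_zero c⟩)
    fun c d => Subtype.ext (Subtype.ext ((congrArg actHom (map_mul _ c d)).trans (map_mul _ _ _)))

theorem card_range : Nat.card ↥actHom.range = 145926144000 := by
  rw [← Nat.card_congr (MonoidHom.ofInjective actHom_injective).toEquiv, card_RG]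

theorem stabHom_bijective : Function.Bijective stabHom := by
  have hinj : Function.Injective stabHom := fun c d h =>
    Subgroup.inclusion_injective RK_le (actHom_injective
      (congrArg (fun s : ↥(stabilizer ↥actHom.range (0 : Fin 4060)) => (s.1 : Equiv.Perm (Fin 4060))) h))
  have hst := (stabilizer ↥actHom.range (0 : Fin 4060)).card_mul_index
  rw [index_stabilizer_of_transitive, Nat.card_fin, card_range] at hst
  exact (Nat.bijective_iff_injective_and_card stabHom).2 ⟨hinj, by rw [card_RK]; omega⟩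

theorem far_lt : farPoint < 4060 := by
  rw [← Nat.eq_of_beq_eq_true span_ok.2.2.2.1]
  exact Nat.blt_eq.mp (forallLt_elim span_ok.2.1 (by norm_num))

/-- The far point. -/
noncomputable def farPt : Fin 4060 := ⟨farPoint, far_lt⟩

theorem orbit_near : orbit ↥(stabilizer ↥actHom.range (0 : Fin 4060)) (nearPt 0) = Set.range nearPt := by
  ext z
  constructor
  · rintro ⟨s, rfl⟩
    obtain ⟨c, rfl⟩ := stabHom_bijective.2 s
    exact ⟨nearHom c 0, (nearHom_spec c 0).symm⟩
  · rintro ⟨x, rfl⟩
    obtain ⟨g, hg, hgx⟩ := exists_move x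
    rw [← nearHom_range] at hg
    obtain ⟨c, rfl⟩ := hg
    exact ⟨stabHom c, (nearHom_spec c 0).trans (congrArg nearPt hgx)⟩

theorem zero_notMem_near : (0 : Fin 4060) ∉ Set.range nearPt := fun ⟨x, hx⟩ => by
  have := (near_spec x.isLt).1
  have := congrArg Fin.val hx
  simp only [nearPt, Fin.val_zero] at this
  omega

theorem orbit_far : (orbit ↥(stabilizer ↥actHom.range (0 : Fin 4060)) farPt).ncard = 2304 := by
  set O := orbit ↥(stabilizer ↥actHom.range (0 : Fin 4060)) farPt with hO
  have hfar0 : farPt ≠ 0 := fun h => by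
    have := Nat.blt_eq.mp far_ok.2.2.1
    have := congrArg Fin.val h
    simp only [farPt, Fin.val_zero] at this
    omega
  have hfarN : farPt ∉ Set.range nearPt := fun ⟨x, hx⟩ => by
    have h := (orth_zero far_lt).2 (Or.inr ⟨x.val, x.isLt, congrArg Fin.val hx⟩)
    have h' := far_ok.2.2.2
    rw [bt_eq, h] at h'
    exact Bool.noConfusion h'
  have h0 : (0 : Fin 4060) ∉ O := fun ⟨s, hs⟩ => hfar0 ((smul_left_cancel s) (hs.trans s.2.symm))
  have hd : Disjoint (Set.range nearPt) O := by
    rw [← orbit_near, Set.disjoint_left]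
    intro z h1 h2
    refine hfarN ?_
    rw [← orbit_near, ← orbit_eq_iff.2 h1, orbit_eq_iff.2 h2]
    exact mem_orbit_self _
  have hup : O.ncard ≤ 2304 := by
    have h := Set.ncard_le_card (insert (0 : Fin 4060) (Set.range nearPt ∪ O))
    rw [Set.ncard_insert_of_notMem (by simp only [Set.mem_union, not_or]; exact ⟨zero_notMem_near, h0⟩),
      Set.ncard_union_eq hd, Set.ncard_range_of_injective nearPt_inj, Nat.card_fin, Nat.card_fin] at h
    omega
  obtain ⟨hmem, -, hrep⟩ := chain_spec [g1, g2, g3, g4] gChain_ok.2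
  obtain ⟨hmem2, -, -⟩ := chain_spec [g2, g3, g4] gChain_ok.2.2
  have hex : ∀ i : Fin 2304, ∃ j ∈ O, pvec (Fin.val j) = dec (g1.img i.val) := by
    intro i
    obtain ⟨r, hr⟩ := hrep g1 List.mem_cons_self i.val (g1_n.symm ▸ i.isLt)
    have hrK : r ∈ RK := (hmem r).2 ⟨i.val, g1_n.symm ▸ i.isLt, 1, (hmem2 1).1 (one_mem _),
      by rw [hr, Units.val_one, mul_one]⟩
    refine ⟨actHom (Subgroup.inclusion RK_le ⟨r, hrK⟩) farPt, ⟨stabHom ⟨r, hrK⟩, rfl⟩, ?_⟩
    rw [← actHom_spec, img_eq, ← hr, Nat.eq_of_beq_eq_true far_ok.2.1]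
    rfl
  choose j hj hje using hex
  have hji : Function.Injective j := fun p q h => Fin.ext (level_inj (L := g1)
    (fun _ hk => forallLt_elim Valid.g1_srt hk) (g1_n.symm ▸ p.isLt) (g1_n.symm ▸ q.isLt) (by rw [← hje, ← hje, h]))
  have hlow : 2304 ≤ O.ncard := by
    rw [← Nat.card_fin 2304, ← Set.ncard_range_of_injective hji]
    exact Set.ncard_le_ncard (by rintro _ ⟨p, rfl⟩; exact hj p) (Set.toFinite _)
  omega

/-- The Rudvalis group is the group of the model graph. -/
theorem ru_modelAut : Nonempty (Cfsg.Spor.Ru ≃* ↥modelAut) := by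
  let ψ := (MulEquiv.ofBijective stabHom stabHom_bijective).symm.trans
    ((MonoidHom.ofInjective nearHom_injective).trans (MulEquiv.subgroupCongr nearHom_range))
  obtain ⟨u⟩ := equiv_modelAut (Fintype.card_fin 4060) actHom.range 0 ψ (nearPt 0) farPt
    (by rw [orbit_near, Set.ncard_range_of_injective nearPt_inj, Nat.card_fin]) orbit_far
  exact ⟨CfsgLib.Sporadic.RuLink.ruEquiv.trans ((MonoidHom.ofInjective actHom_injective).trans u)⟩

end CfsgLib.Recog.RuRankThree
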