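import Cfsg.Agent.Lib.Recog.RuRankThree.GraphChecks
import Cfsg.Agent.Lib.Recog.RuRankThree.Fam
import Cfsg.Agent.Lib.Recog.RuRankThree.LineData
import Cfsg.Agent.Lib.Recog.RuRankThree.SearchData

/-!
# The checks of the search and of the family of 780-sets
-/

set_option autoImplicit false
set_option maxRecDepth 100000
set_option Elab.async false

namespace CfsgLib.Recog.RuRankThree

open CfsgLib.Sporadic (forallLt countLt)

/-- The orbit of a point under `t` and `n`. -/
noncomputable def orbN (x : ℕ) : ℕ := orbT.field 16 x

/-- The representative of an orbit. -/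
noncomputable def repN (i : ℕ) : ℕ := orbReps.getD i 0

/-- A forest of the orbits. -/
noncomputable def forestOK (j : ℕ) : Bool :=
  Nat.blt (fOrder.field 16 j) 1755 && Nat.blt (fPos.field 16 j) 1755 &&
    Nat.beq (fOrder.field 16 (fPos.field 16 j)) j && Nat.blt (orbN j) 42 &&
    cond (Nat.beq (fPar.field 16 j) 65535) (Nat.beq (fOrder.field 16 j) (repN (orbN (fOrder.field 16 j))))
      (Nat.blt (Nat.div (fPar.field 16 j) 2) j &&
        Nat.beq (genN (Nat.add 18 (Nat.mod (fPar.field 16 j) 2)) (fOrder.field 16 (Nat.div (fPar.field 16 j) 2)))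
          (fOrder.field 16 j) &&
        Nat.beq (orbN (fOrder.field 16 (Nat.div (fPar.field 16 j) 2))) (orbN (fOrder.field 16 j)))

theorem forest_ok : forallLt 1755 forestOK = true ∧ forallLt 42 (fun i => Nat.blt (repN i) 1755) = true := by
  decide +kernel

/-- A clique of 27 points. -/
noncomputable def clique (j : ℕ) : List ℕ := cliquePts.getD j []

/-- Increasing. -/
noncomputable def incB (l : List ℕ) : Bool :=
  List.rec (motive := fun _ => ℕ → Bool) (fun _ => true)
    (fun a _ ih lo => Nat.ble lo a && ih (Nat.add a 1)) l 0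

/-- Pairwise adjacent points below 1755. -/
noncomputable def cliqueOK (j : ℕ) : Bool :=
  Nat.beq (clique j).length 27 && incB (clique j) &&
    (clique j).all fun x => Nat.blt x 1755 && (clique j).all fun y => Nat.beq x y || aB x y

theorem cliques_ok : forallLt 72 cliqueOK = true := by decide +kernel

/-- A packed entry. -/
noncomputable def field16 (m i : ℕ) : ℕ := Nat.land (Nat.shiftRight m (Nat.mul 16 i)) 65535

/-- A packed multiplier. -/
noncomputable def field32 (m i : ℕ) : ℕ := Nat.land (Nat.shiftRight m (Nat.mul 32 i)) 4294967295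

/-- A sum. -/
noncomputable def sumLt (n : ℕ) (f : ℕ → ℕ) : ℕ := Nat.rec 0 (fun i acc => Nat.add (f i) acc) n

/-- The left side of an equation. -/
noncomputable def eP (j i : ℕ) : ℕ := field16 (eqP.getD j 0) i

/-- The right side. -/
noncomputable def eN (j i : ℕ) : ℕ := field16 (eqN.getD j 0) i

/-- The constant on the left. -/
noncomputable def eCP (j : ℕ) : ℕ := (eqC.getD j (0, 0)).1

/-- The constant on the right. -/
noncomputable def eCN (j : ℕ) : ℕ := (eqC.getD j (0, 0)).2

/-- The basic equations count points in orbits. -/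
noncomputable def baseEqOK (j : ℕ) : Bool :=
  (forallLt 42 fun i =>
    Nat.beq (eP j i) (cond (Nat.blt j 72) ((clique j).countP fun x => Nat.beq (orbN x) i)
      (countLt 1755 fun x => Nat.beq (orbN x) i)) && Nat.beq (eN j i) 0) &&
    Nat.beq (eCP j) 0 && Nat.beq (eCN j) (cond (Nat.blt j 72) 12 780)

theorem base_eqs : forallLt 73 baseEqOK = true := by decide +kernel

/-- A derived equation is a combination of the basic ones. -/
noncomputable def derOK (r : ℕ) : Bool :=
  (forallLt 42 fun i =>
    Nat.beq (Nat.add (sumLt 73 fun j => Nat.mul (field32 (lamP.getD r 0) j) (eP j i)) (eN (Nat.add 73 r) i))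
      (Nat.add (sumLt 73 fun j => Nat.mul (field32 (lamN.getD r 0) j) (eP j i)) (eP (Nat.add 73 r) i))) &&
    Nat.beq (Nat.add (sumLt 73 fun j => Nat.mul (field32 (lamP.getD r 0) j) (eCN j)) (eCP (Nat.add 73 r)))
      (Nat.add (sumLt 73 fun j => Nat.mul (field32 (lamN.getD r 0) j) (eCN j)) (eCN (Nat.add 73 r)))

theorem der_eqs : forallLt 22 derOK = true ∧ eqC.length = 95 := by decide +kernel

/-- The chosen variables weighted. -/
noncomputable def wSum (f : ℕ → ℕ) (sel : ℕ → Bool) : ℕ := sumLt 42 fun i => cond (sel i) (f i) 0

/-- The left side is too large for every completion of the partial choice. -/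
noncomputable def confP (j c e : ℕ) : Bool :=
  Nat.blt (Nat.add (cond (Nat.beq (eqN.getD j 0) 0) 0 (wSum (eN j) fun i => !bt e i)) (eCN j))
    (Nat.add (wSum (eP j) (bt c)) (eCP j))

/-- The right side is too large for every completion of the partial choice. -/
noncomputable def confN (j c e : ℕ) : Bool :=
  Nat.blt (Nat.add (wSum (eP j) fun i => !bt e i) (eCP j))
    (Nat.add (cond (Nat.beq (eqN.getD j 0) 0) 0 (wSum (eN j) (bt c))) (eCN j))

/-- One token of the search. -/
noncomputable def searchStep (tok c e : ℕ) (rest : List (ℕ × ℕ))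
    (ih : List (ℕ × ℕ) → Option (List (ℕ × ℕ))) : Option (List (ℕ × ℕ)) :=
  cond (Nat.beq (Nat.land tok 1) 1)
    (cond (cond (Nat.beq (Nat.land tok 3) 1) (confP (Nat.shiftRight tok 2) c e) (confN (Nat.shiftRight tok 2) c e) &&
      Nat.blt (Nat.shiftRight tok 2) 95) (ih rest) none)
    (cond (Nat.beq (Nat.land tok 3) 2)
      (cond (Nat.blt (Nat.shiftRight tok 2) 31 && Nat.beq c (solCodes.getD (Nat.shiftRight tok 2) 0) &&
        Nat.beq (Nat.lor c e) (Nat.sub (Nat.shiftLeft 1 42) 1)) (ih rest) none)
      (ih ((Nat.lor c (Nat.shiftLeft 1 (Nat.shiftRight tok 2)), e) ::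
        (c, Nat.lor e (Nat.shiftLeft 1 (Nat.shiftRight tok 2))) :: rest)))

/-- The search over some tokens from a place in their list. -/
noncomputable def searchGo (n : ℕ) : ℕ → List (ℕ × ℕ) → Option (List (ℕ × ℕ)) :=
  Nat.rec (motive := fun _ => ℕ → List (ℕ × ℕ) → Option (List (ℕ × ℕ))) (fun _ st => some st)
    (fun _ ih idx st => List.rec none (fun s rest _ =>
      searchStep (searchT.field 16 idx) s.1 s.2 rest (ih (Nat.add idx 1))) st) n

/-- A segment of the search. -/
noncomputable def segOK (s n : ℕ) : Bool :=
  decide (searchGo n (Nat.mul 1000 s) (searchStacks.getD s []) = some (searchStacks.getD (Nat.add s 1) []))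

theorem seg_ok0 : segOK 0 1000 = true := by decide +kernel

theorem seg_ok1 : segOK 1 1000 = true := by decide +kernel

theorem seg_ok2 : segOK 2 1000 = true := by decide +kernel

theorem seg_ok3 : segOK 3 1000 = true := by decide +kernel

theorem seg_ok4 : segOK 4 1000 = true := by decide +kernel

theorem seg_ok5 : segOK 5 1000 = true := by decide +kernel

theorem seg_ok6 : segOK 6 1000 = true := by decide +kernel

theorem seg_ok7 : segOK 7 1000 = true := by decide +kernel

theorem seg_ok8 : segOK 8 1000 = true := by decide +kernel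

theorem seg_ok9 : segOK 9 1000 = true := by decide +kernel

theorem seg_ok10 : segOK 10 1000 = true := by decide +kernel

theorem seg_ok11 : segOK 11 1000 = true := by decide +kernel

theorem seg_ok12 : segOK 12 1000 = true := by decide +kernel

theorem seg_ok13 : segOK 13 1000 = true := by decide +kernel

theorem seg_ok14 : segOK 14 1000 = true := by decide +kernel

theorem seg_ok15 : segOK 15 1000 = true := by decide +kernel

theorem seg_ok16 : segOK 16 1000 = true := by decide +kernel

theorem seg_ok17 : segOK 17 1000 = true := by decide +kernel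

theorem seg_ok18 : segOK 18 1000 = true := by decide +kernel

theorem seg_ok19 : segOK 19 1000 = true := by decide +kernel

theorem seg_ok20 : segOK 20 1000 = true := by decide +kernel

theorem seg_ok21 : segOK 21 1000 = true := by decide +kernel

theorem seg_ok22 : segOK 22 1000 = true := by decide +kernel

theorem seg_ok23 : segOK 23 1000 = true := by decide +kernel

theorem seg_ok24 : segOK 24 1000 = true := by decide +kernel

theorem seg_ok25 : segOK 25 917 = true := by decide +kernel

theorem seg_ends : searchStacks.getD 0 [] = [(0, 0)] ∧ searchStacks.getD 26 [] = [] ∧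
    searchLen = 25917 := by
  decide +kernel

/-- The solution as a set of points. -/
noncomputable def solOK (k : ℕ) : Bool :=
  Nat.blt (solMasks.getD k 0) (Nat.shiftLeft 1 1755) &&
    forallLt 1755 fun x => bt (solMasks.getD k 0) x == bt (solCodes.getD k 0) (orbN x)

theorem sols_ok : forallLt 31 solOK = true := by decide +kernel

/-- A set of the family. -/
noncomputable def famM (i : ℕ) : ℕ := famT.field 1755 i

/-- The three points of a line. -/
noncomputable def linePt (j q : ℕ) : ℕ :=
  Nat.land (Nat.shiftRight (lineT.field 33 j) (Nat.mul 11 q)) 2047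

/-- A line inside a set. -/
noncomputable def lineIn (m j : ℕ) : Bool := bt m (linePt j 0) && (bt m (linePt j 1) && bt m (linePt j 2))

/-- A solution is in the family or has the wrong number of lines. -/
noncomputable def solCase (k : ℕ) : Bool :=
  cond (Nat.blt (solFam.getD k 0) 2304) (Nat.beq (solMasks.getD k 0) (famM (solFam.getD k 0)))
    (! Nat.beq (Nat.mod (Nat.mul 2304 (countLt 2925 (lineIn (solMasks.getD k 0)))) 2925) 0)

theorem sols_case : forallLt 31 solCase = true := by decide +kernel

end CfsgLib.Recog.RuRankThree
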